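import Cfsg.Agent.Lib.Transfer.AbelianJ
import Cfsg.Agent.Lib.OffenderComp.Facts
import Mathlib.GroupTheory.Nilpotent
import Mathlib.GroupTheory.Commutator.Basic

/-!
# The abelian subgroups of largest order against a normal subgroup of class two

`S` is a `p`-group, `P ≤ S` normal, `Q ≤ P` normal with `[P, Q] ≤ Z(Q)`, and `A` is an abelian
subgroup of `S` of largest order, outside `P`, chosen with `AP` minimal and then `A ∩ Z(Q)` maximal.
-/

set_option autoImplicit false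
set_option linter.unusedSectionVars false

namespace Cfsg.Agent.Lib.LA5.JDegree

open Subgroup
open Cfsg.Agent.Lib.Transfer.AbelianJ
open scoped commutatorElement

variable {G : Type*} [Group G]

theorem comm_mul_right (b x y : G) : ⁅b, x * y⁆ = ⁅b, x⁆ * (x * ⁅b, y⁆ * x⁻¹) := by
  simp only [commutatorElement_def]; group

theorem comm_mul_left (a b u : G) : ⁅a * b, u⁆ = a * ⁅b, u⁆ * a⁻¹ * ⁅a, u⁆ := by
  simp only [commutatorElement_def]; group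

theorem conj_eq (b x : G) : b * x * b⁻¹ = ⁅b, x⁆ * x := by
  simp only [commutatorElement_def]; group

/-- The symmetry `[a, [b, u]] = [b, [a, u]]`. -/
theorem symm_comm {a b u : G} (hab : a * b = b * a) (h : Commute ⁅a, u⁆ ⁅b, u⁆) :
    ⁅a, ⁅b, u⁆⁆ = ⁅b, ⁅a, u⁆⁆ := by
  have e1 : a * ⁅b, u⁆ * a⁻¹ = ⁅b, ⁅a, u⁆⁆ * ⁅b, u⁆ := by
    calc a * ⁅b, u⁆ * a⁻¹ = ⁅a * b * a⁻¹, a * u * a⁻¹⁆ := conjugate_commutatorElement b u a
      _ = ⁅b, ⁅a, u⁆ * u⁆ := by rw [hab, mul_inv_cancel_right, conj_eq]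
      _ = _ := by rw [comm_mul_right, h.eq, mul_inv_cancel_right]
  rw [commutatorElement_def a, e1, mul_inv_cancel_right]

theorem comm_eq_one {a b : G} (h : a * b = b * a) : ⁅a, b⁆ = 1 :=
  commutatorElement_eq_one_iff_mul_comm.2 h

theorem comm_of_eq_one {a b : G} (h : ⁅a, b⁆ = 1) : a * b = b * a :=
  commutatorElement_eq_one_iff_mul_comm.1 h

theorem mem_centralizer_closure {s : Set G} {x : G} (h : ∀ y ∈ s, y * x = x * y) :
    x ∈ centralizer (closure s : Set G) := by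
  rw [mem_centralizer_iff]
  intro y hy
  have : closure s ≤ centralizer ({x} : Set G) := (closure_le _).2 fun y hy =>
    mem_centralizer_iff.2 fun z hz => by rw [Set.mem_singleton_iff.1 hz]; exact (h y hy).symm
  exact (mem_centralizer_iff.1 (this hy) x rfl).symm

theorem exists_mul_of_commute {H K : Subgroup G} (h : ∀ a ∈ H, ∀ b ∈ K, a * b = b * a) {x : G}
    (hx : x ∈ H ⊔ K) : ∃ a ∈ H, ∃ b ∈ K, x = a * b := by
  have hle : H ⊔ K ≤
      ({ carrier := {z | ∃ a ∈ H, ∃ b ∈ K, z = a * b}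
         one_mem' := ⟨1, H.one_mem, 1, K.one_mem, (one_mul 1).symm⟩
         mul_mem' := by
           rintro _ _ ⟨a, ha, b, hb, rfl⟩ ⟨a', ha', b', hb', rfl⟩
           refine ⟨a * a', H.mul_mem ha ha', b * b', K.mul_mem hb hb', ?_⟩
           calc a * b * (a' * b') = a * (b * a') * b' := by group
             _ = a * (a' * b) * b' := by rw [h a' ha' b hb]
             _ = _ := by group
         inv_mem' := by
           rintro _ ⟨a, ha, b, hb, rfl⟩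
           refine ⟨a⁻¹, H.inv_mem ha, b⁻¹, K.inv_mem hb, ?_⟩
           rw [h a ha b hb, mul_inv_rev] } : Subgroup G) := by
    exact sup_le (fun a ha => ⟨a, ha, 1, K.one_mem, (mul_one a).symm⟩)
      (fun b hb => ⟨1, H.one_mem, b, hb, (one_mul b).symm⟩)
  exact hle hx

theorem le_normalizer_of_commute {H K : Subgroup G} (h : ∀ a ∈ H, ∀ b ∈ K, a * b = b * a) :
    H ≤ normalizer (K : Set G) :=
  (show H ≤ centralizer (K : Set G) from fun a ha =>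
    mem_centralizer_iff.2 fun b hb => (h a ha b hb).symm).trans (centralizer_le_normalizer _)

theorem isMulCommutative_of {H : Subgroup G} (h : ∀ a ∈ H, ∀ b ∈ H, a * b = b * a) :
    IsMulCommutative H := .of_setLike_mul_comm h

theorem comm_of_isMulCommutative {H : Subgroup G} (h : IsMulCommutative H) :
    ∀ a ∈ H, ∀ b ∈ H, a * b = b * a := fun a ha b hb =>
  congrArg Subtype.val (h.is_comm.comm (⟨a, ha⟩ : H) ⟨b, hb⟩)

theorem sup_commutative {H K : Subgroup G} (hH : ∀ a ∈ H, ∀ b ∈ H, a * b = b * a)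
    (hK : ∀ a ∈ K, ∀ b ∈ K, a * b = b * a) (h : ∀ a ∈ H, ∀ b ∈ K, a * b = b * a) :
    ∀ a ∈ H ⊔ K, ∀ b ∈ H ⊔ K, a * b = b * a :=
  comm_of_isMulCommutative
    (LA5.Replacement.isMulCommutative_sup (isMulCommutative_of hH) (isMulCommutative_of hK) h)

section Finite

variable [Finite G]

/-- `|H ⊔ K| = |H| [K : H ∩ K]` when `H` normalises `K`. -/
theorem card_sup_eq {H K : Subgroup G} (h : H ≤ normalizer (K : Set G)) :
    Nat.card (H ⊔ K : Subgroup G) = Nat.card H * (H ⊓ K).relIndex K := by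
  have h1 := OffenderComp.Aux.card_sup_inf h
  have h2 := relIndex_mul_relIndex (⊥ : Subgroup G) (H ⊓ K) K bot_le inf_le_right
  rw [relIndex_bot_left, relIndex_bot_left] at h2
  refine Nat.eq_of_mul_eq_mul_right (m := Nat.card (H ⊓ K : Subgroup G)) Nat.card_pos ?_
  rw [h1, ← h2]; ring

theorem relIndex_pos (H K : Subgroup G) : 0 < H.relIndex K :=
  Nat.pos_of_ne_zero Subgroup.index_ne_zero_of_finite

theorem relIndex_le_of_le_left {H H' K : Subgroup G} (h : H ≤ H') : H'.relIndex K ≤ H.relIndex K :=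
  Nat.le_of_dvd (relIndex_pos H K) (relIndex_dvd_of_le_left K h)

/-- An injection of coset spaces given by a map on elements. -/
theorem relIndex_le_of_inj {A C M F : Subgroup G} (f : G → G) (hf : ∀ b ∈ A, f b ∈ M)
    (h : ∀ b₁ ∈ A, ∀ b₂ ∈ A, (f b₁)⁻¹ * f b₂ ∈ F → b₁⁻¹ * b₂ ∈ C) : C.relIndex A ≤ F.relIndex M := by
  refine Nat.card_le_card_of_injective
    (fun q : A ⧸ C.subgroupOf A =>
      ((⟨f (q.out : A), hf _ (q.out : A).2⟩ : M) : M ⧸ F.subgroupOf M)) fun q₁ q₂ he => ?_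
  rw [← q₁.out_eq', ← q₂.out_eq']
  refine QuotientGroup.eq.2 ?_
  have h1 := QuotientGroup.eq.1 he
  exact h _ (q₁.out : A).2 _ (q₂.out : A).2 h1

/-- The injection is onto when the indices agree. -/
theorem exists_rep_of_inj {A C M F : Subgroup G} (f : G → G) (hf : ∀ b ∈ A, f b ∈ M)
    (h : ∀ b₁ ∈ A, ∀ b₂ ∈ A, (f b₁)⁻¹ * f b₂ ∈ F → b₁⁻¹ * b₂ ∈ C)
    (hle : F.relIndex M ≤ C.relIndex A) {m : G} (hm : m ∈ M) :
    ∃ b ∈ A, (f b)⁻¹ * m ∈ F := by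
  let φ := fun q : A ⧸ C.subgroupOf A =>
      ((⟨f (q.out : A), hf _ (q.out : A).2⟩ : M) : M ⧸ F.subgroupOf M)
  have hinj : Function.Injective φ := by
    intro q₁ q₂ he
    rw [← q₁.out_eq', ← q₂.out_eq']
    have h1 := QuotientGroup.eq.1 he
    exact QuotientGroup.eq.2 (h _ (q₁.out : A).2 _ (q₂.out : A).2 h1)
  have hcard : Nat.card (A ⧸ C.subgroupOf A) = Nat.card (M ⧸ F.subgroupOf M) :=
    le_antisymm (relIndex_le_of_inj f hf h) hle
  obtain ⟨q, hq⟩ := ((Nat.bijective_iff_injective_and_card φ).2 ⟨hinj, hcard⟩).2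
    ((⟨m, hm⟩ : M) : M ⧸ F.subgroupOf M)
  have h1 := QuotientGroup.eq.1 hq
  exact ⟨_, (q.out : A).2, h1⟩

end Finite

/-- The subgroup generated by the commutators of `u` with `A`. -/
def gen (A : Subgroup G) (u : G) : Subgroup G := closure ((fun b => ⁅b, u⁆) '' (A : Set G))

theorem mem_gen {A : Subgroup G} {b : G} (hb : b ∈ A) (u : G) : ⁅b, u⁆ ∈ gen A u :=
  subset_closure ⟨b, hb, rfl⟩

theorem gen_le {A N : Subgroup G} {u : G} (h : ∀ b ∈ A, ⁅b, u⁆ ∈ N) : gen A u ≤ N :=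
  (closure_le N).2 (by rintro _ ⟨b, hb, rfl⟩; exact h b hb)

theorem gen_le_normal {A N : Subgroup G} [hN : N.Normal] {u : G} (hu : u ∈ N) : gen A u ≤ N :=
  gen_le fun b _ => by
    rw [commutatorElement_def]; exact N.mul_mem (hN.conj_mem u hu b) (N.inv_mem hu)

theorem conj_gen {A : Subgroup G} {u a : G} (ha : a ∈ A) {m : G} (hm : m ∈ gen A u) :
    a * m * a⁻¹ ∈ gen A u := by
  have : gen A u ≤ (gen A u).comap (MulAut.conj a).toMonoidHom := by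
    refine gen_le fun b hb => ?_
    show a * ⁅b, u⁆ * a⁻¹ ∈ gen A u
    rw [show a * ⁅b, u⁆ * a⁻¹ = ⁅a * b, u⁆ * ⁅a, u⁆⁻¹ by rw [comm_mul_left]; group]
    exact mul_mem (mem_gen (A.mul_mem ha hb) u) (inv_mem (mem_gen ha u))
  exact this hm

theorem gen_mono_mem {A : Subgroup G} {u w : G} (hw : w ∈ gen A u) : gen A w ≤ gen A u :=
  gen_le fun b hb => by
    rw [commutatorElement_def]; exact mul_mem (conj_gen hb hw) (inv_mem hw)

/-- `Q ∩ C(Q)`. -/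
abbrev zc (Q : Subgroup G) : Subgroup G := Q ⊓ centralizer (Q : Set G)

theorem zc_comm {Q : Subgroup G} {z q : G} (hz : z ∈ zc Q) (hq : q ∈ Q) : z * q = q * z :=
  (mem_centralizer_iff.1 hz.2 q hq).symm

variable {S P Q A : Subgroup G}

/-- The configuration. -/
structure Cfg (p : ℕ) (S P Q A : Subgroup G) : Prop where
  pgroup : IsPGroup p S
  normal_P : P.Normal
  normal_Q : Q.Normal
  P_le : P ≤ S
  Q_le : Q ≤ P
  brk : ⁅P, Q⁆ ≤ zc Q
  mem : A ∈ maxAbIn S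
  not_le : ¬ A ≤ P
  min : ∀ A' ∈ maxAbIn S, ¬ A' ≤ P → A' ⊔ P ≤ A ⊔ P →
    A ⊔ P ≤ A' ⊔ P ∧ Nat.card (A' ⊓ zc Q : Subgroup G) ≤ Nat.card (A ⊓ zc Q : Subgroup G)

theorem exists_cfg [Finite G] {p : ℕ} (hS : IsPGroup p S) [hP : P.Normal] [hQ : Q.Normal] (hPS : P ≤ S)
    (hQP : Q ≤ P) (hbrk : ⁅P, Q⁆ ≤ zc Q) (hne : ∃ A ∈ maxAbIn S, ¬ A ≤ P) :
    ∃ A, Cfg p S P Q A := by
  obtain ⟨A₁, hA₁, h₁⟩ := Set.exists_min_image {A : Subgroup G | A ∈ maxAbIn S ∧ ¬ A ≤ P}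
    (fun A => Nat.card (A ⊔ P : Subgroup G)) (Set.toFinite _) hne
  obtain ⟨A, ⟨hA, hAeq⟩, h₂⟩ := Set.exists_max_image
    {A : Subgroup G | (A ∈ maxAbIn S ∧ ¬ A ≤ P) ∧ A ⊔ P = A₁ ⊔ P}
    (fun A => Nat.card (A ⊓ zc Q : Subgroup G)) (Set.toFinite _) ⟨A₁, hA₁, rfl⟩
  refine ⟨A, hS, hP, hQ, hPS, hQP, hbrk, hA.1, hA.2, fun A' hA' hP' hle => ?_⟩
  have heq : A' ⊔ P = A₁ ⊔ P :=
    eq_of_le_of_card_ge (hle.trans hAeq.le) (h₁ A' ⟨hA', hP'⟩)
  exact ⟨(hAeq.trans heq.symm).le, h₂ A' ⟨⟨hA', hP'⟩, heq⟩⟩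

theorem mem_of_comm [Finite G] {A : Subgroup G} (hA : A ∈ maxAbIn S) {x : G} (hx : x ∈ S)
    (h : ∀ a ∈ A, a * x = x * a) : x ∈ A := by
  have hc : ∀ a ∈ A ⊔ zpowers x, ∀ b ∈ A ⊔ zpowers x, a * b = b * a :=
    sup_commutative (comm_of_isMulCommutative hA.2.1)
      (comm_of_isMulCommutative inferInstance) fun a ha b hb => by
        obtain ⟨k, rfl⟩ := mem_zpowers_iff.1 hb
        exact (Commute.zpow_right (h a ha) k).eq
  have hle := hA.2.2 (A ⊔ zpowers x) (sup_le hA.1 (zpowers_le.2 hx)) (isMulCommutative_of hc)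
  have := eq_of_le_of_card_ge le_sup_left hle
  exact this.symm ▸ mem_sup_right (mem_zpowers x)

namespace Cfg

variable [Finite G] {p : ℕ} (s : Cfg p S P Q A)
include s

theorem comm_A : ∀ a ∈ A, ∀ b ∈ A, a * b = b * a := comm_of_isMulCommutative s.mem.2.1

theorem Q_le_S : Q ≤ S := s.Q_le.trans s.P_le

theorem zc_le_S : zc Q ≤ S := inf_le_left.trans s.Q_le_S

theorem zc_normal : (zc Q).Normal := by
  have := s.normal_Q
  infer_instance

theorem brk_left {x q : G} (hx : x ∈ P) (hq : q ∈ Q) : ⁅x, q⁆ ∈ zc Q :=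
  s.brk (commutator_mem_commutator hx hq)

theorem comm_zc : ∀ a ∈ zc Q, ∀ b ∈ zc Q, a * b = b * a := fun _ ha _ hb => zc_comm ha hb.1

theorem conj_Q {x : G} (b : G) (hx : x ∈ Q) : ⁅b, x⁆ ∈ Q := by
  rw [commutatorElement_def]
  exact Q.mul_mem (s.normal_Q.conj_mem x hx b) (Q.inv_mem hx)

theorem conj_zc {x : G} (b : G) (hx : x ∈ zc Q) : ⁅b, x⁆ ∈ zc Q := by
  rw [commutatorElement_def]
  exact (zc Q).mul_mem (s.zc_normal.conj_mem x hx b) ((zc Q).inv_mem hx)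

theorem gen_zc {z : G} (hz : z ∈ zc Q) : gen A z ≤ zc Q := gen_le fun b _ => s.conj_zc b hz

/-- A large abelian group `(A ∩ C(N)) N` lies in `P` or covers `AP`. -/
theorem dich {C N : Subgroup G} (hC : C ≤ A) (hCN : ∀ c ∈ C, ∀ n ∈ N, c * n = n * c)
    (hN : ∀ a ∈ N, ∀ b ∈ N, a * b = b * a) (hNP : N ≤ P)
    (hcard : Nat.card A ≤ Nat.card (C ⊔ N : Subgroup G)) :
    C ⊔ N ∈ maxAbIn S ∧ (C ≤ P ∨
      (C ⊔ P = A ⊔ P ∧ ((∀ a ∈ A ⊓ zc Q, (∀ n ∈ N, a * n = n * a) → a ∈ C) → N ≤ zc Q → N ≤ A))) := by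
  have hab := sup_commutative (fun a ha b hb => s.comm_A a (hC ha) b (hC hb)) hN hCN
  have hS : C ⊔ N ≤ S := sup_le (hC.trans s.mem.1) (hNP.trans s.P_le)
  have hmax : C ⊔ N ∈ maxAbIn S :=
    ⟨hS, isMulCommutative_of hab, fun B hB hB' => (s.mem.2.2 B hB hB').trans hcard⟩
  refine ⟨hmax, or_iff_not_imp_left.2 fun hCP => ?_⟩
  have hle : C ⊔ N ⊔ P ≤ A ⊔ P :=
    sup_le (sup_le (hC.trans le_sup_left) (hNP.trans le_sup_right)) le_sup_right
  obtain ⟨h1, h2⟩ := s.min _ hmax (fun h => hCP (le_sup_left.trans h)) hle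
  refine ⟨le_antisymm (sup_le_sup_right hC _) ?_, fun hfix hNZ => ?_⟩
  · refine h1.trans (sup_le (sup_le le_sup_left (hNP.trans le_sup_right)) le_sup_right)
  · have hle' : (A ⊓ zc Q) ⊔ N ≤ (C ⊔ N) ⊓ zc Q :=
      sup_le (le_inf (fun a ha => mem_sup_left
        (hfix a ha fun n hn => zc_comm ha.2 (hNZ hn).1)) inf_le_right) (le_inf le_sup_right hNZ)
    have h3 := eq_of_le_of_card_ge (le_sup_left : A ⊓ zc Q ≤ (A ⊓ zc Q) ⊔ N)
      ((card_le_of_le hle').trans h2)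
    exact le_sup_right.trans (h3.ge.trans inf_le_left)

/-- The commutators of a single element give a large abelian group. -/
theorem good {u : G} (hu : u ∈ S) (hM : ∀ a ∈ gen A u, ∀ b ∈ gen A u, a * b = b * a) :
    Nat.card A ≤ Nat.card ((A ⊓ centralizer (gen A u : Set G)) ⊔ gen A u : Subgroup G) ∧
      ∀ m ∈ gen A u, ∃ b ∈ A, ⁅b, u⁆⁻¹ * m ∈ A := by
  set M := gen A u with hMdef
  set C := A ⊓ centralizer (M : Set G) with hC
  have hMS : M ≤ S := gen_le fun b hb => by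
    rw [commutatorElement_def]
    exact S.mul_mem (S.mul_mem (S.mul_mem (s.mem.1 hb) hu) (S.inv_mem (s.mem.1 hb))) (S.inv_mem hu)
  have hinj : ∀ b₁ ∈ A, ∀ b₂ ∈ A, ⁅b₁, u⁆⁻¹ * ⁅b₂, u⁆ ∈ A ⊓ M → b₁⁻¹ * b₂ ∈ C := by
    intro b₁ h₁ b₂ h₂ hz
    refine ⟨A.mul_mem (A.inv_mem h₁) h₂, mem_centralizer_closure ?_⟩
    rintro _ ⟨k, hk, rfl⟩
    have hzk : ⁅k, ⁅b₁, u⁆⁻¹ * ⁅b₂, u⁆⁆ = 1 := comm_eq_one (s.comm_A k hk _ hz.1)
    have e : ⁅b₁, ⁅k, u⁆⁆ = ⁅b₂, ⁅k, u⁆⁆ := by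
      rw [symm_comm (s.comm_A b₁ h₁ k hk) (hM _ (mem_gen h₁ u) _ (mem_gen hk u)),
        symm_comm (s.comm_A b₂ h₂ k hk) (hM _ (mem_gen h₂ u) _ (mem_gen hk u)),
        show ⁅k, ⁅b₂, u⁆⁆ = ⁅k, ⁅b₁, u⁆ * (⁅b₁, u⁆⁻¹ * ⁅b₂, u⁆)⁆ by rw [mul_inv_cancel_left],
        comm_mul_right, hzk]
      group
    have e' : b₁ * ⁅k, u⁆ * b₁⁻¹ = b₂ * ⁅k, u⁆ * b₂⁻¹ := by rw [conj_eq, conj_eq, e]
    calc ⁅k, u⁆ * (b₁⁻¹ * b₂) = b₁⁻¹ * (b₁ * ⁅k, u⁆ * b₁⁻¹) * b₂ := by group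
      _ = _ := by rw [e']; group
  have hf : ∀ b ∈ A, ⁅b, u⁆ ∈ M := fun b hb => mem_gen hb u
  have hidx := relIndex_le_of_inj (fun b => ⁅b, u⁆) hf hinj
  have hCM : C ⊓ M = A ⊓ M := le_antisymm (inf_le_inf_right _ inf_le_left)
    fun x hx => ⟨⟨hx.1, mem_centralizer_iff.2 fun m hm => hM m hm x hx.2⟩, hx.2⟩
  have hcomm : ∀ c ∈ C, ∀ m ∈ M, c * m = m * c := fun c hc m hm => (mem_centralizer_iff.1 hc.2 m hm).symm
  have hcard : Nat.card (C ⊔ M : Subgroup G) = Nat.card C * (A ⊓ M).relIndex M := by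
    rw [card_sup_eq (le_normalizer_of_commute hcomm), hCM]
  have hA : Nat.card A = Nat.card C * C.relIndex A := by
    have h := relIndex_mul_relIndex (⊥ : Subgroup G) C A bot_le inf_le_left
    rw [relIndex_bot_left, relIndex_bot_left] at h
    exact h.symm
  have hle : Nat.card (C ⊔ M : Subgroup G) ≤ Nat.card A :=
    s.mem.2.2 _ (sup_le (inf_le_left.trans s.mem.1) hMS)
      (isMulCommutative_of (sup_commutative (fun a ha b hb => s.comm_A a ha.1 b hb.1) hM hcomm))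
  rw [hcard, hA] at hle
  refine ⟨?_, fun m hm => ?_⟩
  · rw [hcard, hA]; exact Nat.mul_le_mul_left _ hidx
  · obtain ⟨b, hb, hbm⟩ := exists_rep_of_inj (fun b => ⁅b, u⁆) hf hinj
      (Nat.le_of_mul_le_mul_left hle Nat.card_pos) hm
    exact ⟨b, hb, hbm.1⟩

theorem gen_comm_zc {z : G} (hz : z ∈ zc Q) : ∀ a ∈ gen A z, ∀ b ∈ gen A z, a * b = b * a :=
  fun a ha b hb => s.comm_zc a (s.gen_zc hz ha) b (s.gen_zc hz hb)

/-- For central `z` either `A ∩ C([A, z]) ≤ P` or `[A, z] ≤ A`. -/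
theorem small_or {z : G} (hz : z ∈ zc Q) :
    A ⊓ centralizer (gen A z : Set G) ≤ P ∨ gen A z ≤ A := by
  obtain ⟨-, h⟩ := s.dich (C := A ⊓ centralizer (gen A z : Set G)) inf_le_left
    (fun c hc m hm => (mem_centralizer_iff.1 hc.2 m hm).symm) (s.gen_comm_zc hz)
    ((s.gen_zc hz).trans (inf_le_left.trans s.Q_le)) (s.good (s.zc_le_S hz) (s.gen_comm_zc hz)).1
  refine h.imp_right fun h => h.2 (fun a ha _ => ⟨ha.1, mem_centralizer_iff.2 fun m hm => ?_⟩)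
    (s.gen_zc hz)
  exact s.comm_zc m (s.gen_zc hz hm) a ha.2

end Cfg

end Cfsg.Agent.Lib.LA5.JDegree
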