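import Cfsg.Agent.Lib.LA5.JDegree.Main
import Cfsg.Agent.Lib.Transfer.AbelianJ
import Cfsg.Agent.Lib.ConjFunctor.CritExist
import Cfsg.Agent.Lib.ConjFunctor.KControl

/-!
# The abelian Thompson subgroup controls transfer for `p ≥ 7`
-/

set_option autoImplicit false
set_option linter.unusedSectionVars false

open Cfsg

namespace Cfsg.Agent.Lib.LA5.JDegree.Control

open Cfsg.Agent.Lib.Transfer Cfsg.Agent.Lib.ConjFunctor

universe u

/-- The abelian Thompson subgroup as a functor. -/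
abbrev jA : ∀ (Q : Type u) [Group Q], Subgroup Q := fun Q _ => Cfsg.thompsonSubgroupA Q

theorem jA_eq (Q : Type u) [Group Q] :
    Cfsg.thompsonSubgroupA Q = Cfsg.thompsonSubgroupAOf (⊤ : Subgroup Q) := by
  rw [AbelianJ.thompsonSubgroupAOf_eq, Cfsg.thompsonSubgroupA]
  congr 1
  ext A
  exact ⟨fun h => ⟨le_top, h.1, fun B _ hB => h.2 B hB⟩,
    fun h => ⟨h.2.1, fun B hB => h.2.2 B le_top hB⟩⟩

theorem jA_map {Q R : Type u} [Group Q] [Group R] (φ : Q ≃* R) :
    (Cfsg.thompsonSubgroupA Q).map φ.toMonoidHom = Cfsg.thompsonSubgroupA R := by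
  rw [jA_eq, jA_eq, AbelianJ.map_thompsonSubgroupAOf φ.toMonoidHom φ.injective,
    Subgroup.map_top_of_surjective _ φ.surjective]

variable {p : ℕ} [hp : Fact p.Prime]

theorem isCharP : IsCharPFunctor.{u} p jA.{u} := by
  refine ⟨fun Q _ _ _ hne => ?_, fun Q R _ _ _ _ φ => jA_map φ⟩
  show Cfsg.thompsonSubgroupA Q ≠ ⊥
  rw [jA_eq]
  exact AbelianJ.thompsonSubgroupAOf_ne_bot fun h => bot_ne_top h.symm

instance jA_characteristic (Q : Type u) [Group Q] : (Cfsg.thompsonSubgroupA Q).Characteristic :=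
  Subgroup.characteristic_iff_map_eq.2 fun e => jA_map e

theorem exists_element {X : Type u} [Group X] [Finite X] (S : Sylow p X)
    (hn : ¬ (Cfsg.thompsonSubgroupAOf (S : Subgroup X)).Normal) :
    ∃ g : X, g ∈ (S : Subgroup X) ∧ g ∉ pCore p X ∧
      ∀ U V : Subgroup X, IsChiefFactor U V → U ≤ pCore p X →
        iterCommutator U (Subgroup.zpowers g) 6 ≤ V := by
  have hPS : pCore p X ≤ (S : Subgroup X) := Cores.pCore_le_sylow S
  obtain ⟨Q, hQ, hQC⟩ := CritExist.exists_crit (G := X) (p := p)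
  haveI := hQ.normal
  have hne : ∃ A ∈ AbelianJ.maxAbIn (S : Subgroup X), ¬ A ≤ pCore p X := by
    by_contra h
    push Not at h
    refine hn ?_
    rw [← AbelianJ.thompsonSubgroupAOf_eq_of_le hPS
      ((AbelianJ.thompsonSubgroupAOf_eq _).le.trans (sSup_le h))]
    exact Cores.normal_map_subtype (pCore p X) (Cfsg.thompsonSubgroupA ↥(pCore p X))
  obtain ⟨A, s⟩ := exists_cfg S.2 hPS hQ.le hQ.comm hne
  obtain ⟨g, hgA, hgP⟩ := SetLike.not_le_iff_exists.1 s.not_le
  exact ⟨g, s.mem.1 hgA, hgP, degree_six s hQC hgA⟩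

/-- The abelian Thompson subgroup controls transfer for `p ≥ 7`. -/
theorem tr_jA (h7 : 7 ≤ p) (G : Type u) [Group G] [Finite G] : Section.Tr {jA.{u}} p G := by
  have h𝓦 : ∀ V ∈ ({jA.{u}} : Set (∀ (Q : Type u) [Group Q], Subgroup Q)), IsCharPFunctor.{u} p V := by
    rintro V rfl; exact isCharP
  refine Failure.tr_induction (G := G) h𝓦 (fun K R _ hsub hquot => ?_) G (Section.IsSection.refl G)
  by_contra hfail
  obtain ⟨S⟩ := (inferInstance : Nonempty (Sylow p (↥K ⧸ R.subgroupOf K)))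
  have hn : ¬ (inducedFunctor (G := (↥K ⧸ R.subgroupOf K)) jA.{u}
      (S : Subgroup (↥K ⧸ R.subgroupOf K))).Normal := fun hn =>
    Failure.not_trAt h𝓦 hfail S
      (Failure.trAt_of_normalizer_eq_top S (W := jA.{u}) rfl (Subgroup.normalizer_eq_top_iff.2 hn))
  obtain ⟨g, hg, hgP, hdeg⟩ := exists_element S hn
  refine Failure.not_smallDegree h𝓦 (Set.singleton_nonempty _) hsub hquot hfail S hg hgP
    fun U V hUV hU => ?_
  haveI := hUV.2.2.1
  exact KControl.iterCommutator_le_of_le (hdeg U V hUV hU) (by omega)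

/-- `S ∩ G' = S ∩ N(J(S))'` for `p ≥ 7`. -/
theorem inf_commutator_eq (h7 : 7 ≤ p) {G : Type u} [Group G] [Finite G] (S : Sylow p G) :
    (S : Subgroup G) ⊓ commutator G = (S : Subgroup G) ⊓
      ⁅Subgroup.normalizer (Cfsg.thompsonSubgroupAOf (S : Subgroup G) : Set G),
        Subgroup.normalizer (Cfsg.thompsonSubgroupAOf (S : Subgroup G) : Set G)⁆ := by
  have h := tr_jA (p := p) h7 G S
  rw [Reach.TrAt, Local.trGen_nFam, Section.indSet, Set.image_singleton, iSup_singleton, top_inf_eq,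
    ← _root_.commutator_def] at h
  exact h

end Cfsg.Agent.Lib.LA5.JDegree.Control
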