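import Cfsg.Agent.Lib.LA5.JDegree.Basic

/-!
# The case of a central element moved out of `A`: cubic action

If some `B = A ∩ C([A, z])`, `z ∈ Z(Q)`, lies in `P`, then three commutators with elements of `A`
carry `Q` into `Z(Q)` and kill every section of `Z(Q)` centralised by `P`.
-/

set_option autoImplicit false
set_option linter.unusedSectionVars false

namespace Cfsg.Agent.Lib.LA5.JDegree

open Subgroup
open Cfsg.Agent.Lib.Transfer.AbelianJ
open scoped commutatorElement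

variable {G : Type*} [Group G] [Finite G] {p : ℕ} {S P Q A : Subgroup G}

/-- `A ∩ C([A, z])`. -/
abbrev fixer (A : Subgroup G) (z : G) : Subgroup G := A ⊓ centralizer (gen A z : Set G)

/-- `[A, A, x] = 1`. -/
def Quad (A : Subgroup G) (x : G) : Prop := ∀ c ∈ A, ∀ b ∈ A, ⁅c, ⁅b, x⁆⁆ = 1

namespace Cfg

variable [Fact p.Prime] (s : Cfg p S P Q A)
include s

theorem quad_of_le {z : G} (h : gen A z ≤ A) : Quad A z := fun c hc b hb =>
  comm_eq_one (s.comm_A c hc _ (h (mem_gen hb z)))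

theorem inf_zc_le_fixer {z : G} (hz : z ∈ zc Q) : A ⊓ zc Q ≤ fixer A z := fun a ha =>
  ⟨ha.1, mem_centralizer_iff.2 fun m hm => s.comm_zc m (s.gen_zc hz hm) a ha.2⟩

/-- The part of `Z(Q)` centralised by `A ∩ C([A, z])` is `(A ∩ Z(Q)) [A, z]`. -/
theorem fixed_le {z : G} (hz : z ∈ zc Q) :
    zc Q ⊓ centralizer (fixer A z : Set G) ≤ (A ⊓ zc Q) ⊔ gen A z := by
  intro x hx
  set B := fixer A z with hB
  have hcomm : ∀ c ∈ B, ∀ m ∈ gen A z, c * m = m * c := fun c hc m hm =>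
    (mem_centralizer_iff.1 hc.2 m hm).symm
  have hmax := (s.dich (C := B) inf_le_left hcomm (s.gen_comm_zc hz)
    ((s.gen_zc hz).trans (inf_le_left.trans s.Q_le)) (s.good (s.zc_le_S hz) (s.gen_comm_zc hz)).1).1
  have hmem : x ∈ B ⊔ gen A z := by
    refine mem_of_comm hmax (s.zc_le_S hx.1) fun a ha => ?_
    obtain ⟨c, hc, m, hm, rfl⟩ := exists_mul_of_commute hcomm ha
    have h1 : c * x = x * c := mem_centralizer_iff.1 hx.2 c hc
    have h2 : m * x = x * m := s.comm_zc m (s.gen_zc hz hm) x hx.1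
    exact (Commute.mul_left h1 h2).eq
  obtain ⟨c, hc, m, hm, rfl⟩ := exists_mul_of_commute hcomm hmem
  refine mul_mem (mem_sup_left ⟨hc.1, ?_⟩) (mem_sup_right hm)
  have := (zc Q).mul_mem hx.1 ((zc Q).inv_mem (s.gen_zc hz hm))
  rwa [mul_inv_cancel_right] at this

theorem conj_mul_zc {a m b : G} (ha : a ∈ A ⊓ zc Q) (hm : m ∈ zc Q) (hb : b ∈ A) :
    ⁅b, a * m⁆ = ⁅b, m⁆ := by
  rw [comm_mul_right, comm_eq_one (s.comm_A b hb a ha.1), one_mul,
    s.comm_zc a ha.2 _ (s.conj_zc b hm), mul_inv_cancel_right]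

/-- `z` cuts out a largest possible `A ∩ C([A, z])` inside `P`. -/
structure Top (p : ℕ) (S P Q A : Subgroup G) (z : G) : Prop where
  mem : z ∈ zc Q
  le : fixer A z ≤ P
  max : ∀ w ∈ zc Q, fixer A w ≤ P → fixer A z ≤ fixer A w → fixer A w = fixer A z

omit s in
theorem exists_top (B₀ : Subgroup G) (h : ∃ z ∈ zc Q, fixer A z ≤ P ∧ B₀ ≤ fixer A z) :
    ∃ z, Top p S P Q A z ∧ B₀ ≤ fixer A z := by
  obtain ⟨z₀, hz₀⟩ := h
  obtain ⟨z, ⟨hz, hzP, hzB⟩, hmax⟩ := Set.exists_max_image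
    {z : G | z ∈ zc Q ∧ fixer A z ≤ P ∧ B₀ ≤ fixer A z}
    (fun z => Nat.card (fixer A z)) (Set.toFinite _) ⟨z₀, hz₀.1, hz₀.2⟩
  exact ⟨z, ⟨hz, hzP, fun w hw hwP hle =>
    (eq_of_le_of_card_ge hle (hmax w ⟨hw, hwP, hzB.trans hle⟩)).symm⟩, hzB⟩

theorem quad_gen {z : G} (ht : Top p S P Q A z) : ∀ w ∈ gen A z, Quad A w := by
  intro w hw
  have hwz : w ∈ zc Q := s.gen_zc ht.mem hw
  have hsub : fixer A z ≤ fixer A w :=
    inf_le_inf_left _ (centralizer_le (gen_mono_mem hw))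
  rcases s.small_or hwz with hwP | hwA
  swap
  · exact s.quad_of_le hwA
  exfalso
  have heq := ht.max w hwz hwP hsub
  have hcomm : ∀ c ∈ fixer A z, ∀ m ∈ gen A z, c * m = m * c := fun c hc m hm =>
    (mem_centralizer_iff.1 hc.2 m hm).symm
  -- `[A, z] ≤ (A ∩ Z) [A, w]`
  have hle : gen A z ≤ (A ⊓ zc Q) ⊔ gen A w := by
    have h1 : fixer A z ⊔ gen A w ≤ fixer A z ⊔ gen A z := sup_le_sup_left (gen_mono_mem hw) _
    have hmax := (s.dich (C := fixer A z) inf_le_left hcomm (s.gen_comm_zc ht.mem)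
      ((s.gen_zc ht.mem).trans (inf_le_left.trans s.Q_le))
      (s.good (s.zc_le_S ht.mem) (s.gen_comm_zc ht.mem)).1).1
    have h2 := (s.good (s.zc_le_S hwz) (s.gen_comm_zc hwz)).1
    rw [show A ⊓ centralizer (gen A w : Set G) = fixer A z from heq] at h2
    have h3 := eq_of_le_of_card_ge h1 ((s.mem.2.2 _ hmax.1 hmax.2.1).trans h2)
    intro m hm
    have hmem : m ∈ fixer A z ⊔ gen A w := h3.symm ▸ mem_sup_right hm
    obtain ⟨c, hc, m', hm', rfl⟩ :=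
      exists_mul_of_commute (fun c hc m hm => hcomm c hc m (gen_mono_mem hw hm)) hmem
    refine mul_mem (mem_sup_left ⟨hc.1, ?_⟩) (mem_sup_right hm')
    have := (zc Q).mul_mem (s.gen_zc ht.mem hm) ((zc Q).inv_mem (s.gen_zc hwz hm'))
    rwa [mul_inv_cancel_right] at this
  obtain ⟨N, hN⟩ := (Subgroup.isNilpotent_iff_lowerCentralSeries S).1
    s.pgroup.isNilpotent
  have hiter : ∀ n : ℕ, gen A z ≤ (A ⊓ zc Q) ⊔ (S.lowerCentralSeries n ⊓ zc Q) := by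
    intro n
    induction n with
    | zero =>
      refine fun m hm => mem_sup_right ⟨?_, s.gen_zc ht.mem hm⟩
      rw [Subgroup.lowerCentralSeries_zero]
      exact s.zc_le_S (s.gen_zc ht.mem hm)
    | succ n ih =>
      refine hle.trans (sup_le le_sup_left ((gen_le fun b hb => ?_).trans le_sup_right))
      obtain ⟨a, ha, l, hl, rfl⟩ :=
        exists_mul_of_commute (H := A ⊓ zc Q) (K := S.lowerCentralSeries n ⊓ zc Q)
          (fun a ha l hl => s.comm_zc a ha.2 l hl.2) (ih hw)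
      rw [s.conj_mul_zc ha hl.2 hb]
      refine ⟨?_, s.conj_zc b hl.2⟩
      rw [Subgroup.lowerCentralSeries_succ, commutator_comm]
      exact commutator_mem_commutator (s.mem.1 hb) hl.1
  have hA : gen A z ≤ A := by
    refine (hiter N).trans (sup_le inf_le_left ?_)
    rw [hN, bot_inf_eq]
    exact bot_le
  refine s.not_le fun a ha => ht.le ⟨ha, mem_centralizer_iff.2 fun m hm => ?_⟩
  exact s.comm_A m (hA hm) a ha

theorem quad_fixed {z : G} (ht : Top p S P Q A z) :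
    ∀ x ∈ zc Q ⊓ centralizer (fixer A z : Set G), Quad A x := by
  intro x hx c hc b hb
  obtain ⟨a, ha, m, hm, rfl⟩ :=
    exists_mul_of_commute (H := A ⊓ zc Q) (K := gen A z)
      (fun a ha m hm => s.comm_zc a ha.2 m (s.gen_zc ht.mem hm)) (s.fixed_le ht.mem hx)
  rw [s.conj_mul_zc ha (s.gen_zc ht.mem hm) hb]
  exact s.quad_gen ht m hm c hc b hb

/-- `[A, A, u]` lies in `A · [B, u] C_Z(B)`. -/
theorem step {z : G} (ht : Top p S P Q A z) {u : G} (hu : u ∈ Q) {c b : G} (hc : c ∈ A) (hb : b ∈ A) :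
    ∃ h ∈ A, ∃ x ∈ closure ((fun k => ⁅k, u⁆) '' (fixer A z : Set G)) ⊔
      (zc Q ⊓ centralizer (fixer A z : Set G)), ⁅c, ⁅b, u⁆⁆ = h * x := by
  set B := fixer A z with hB
  set Y : Set G := (fun k => ⁅k, u⁆) '' (B : Set G) with hY
  set W := zc Q ⊓ centralizer (B : Set G) with hW
  set X := closure Y ⊔ W with hX
  set K := B ⊓ centralizer Y with hK
  have hYz : ∀ k ∈ B, ⁅k, u⁆ ∈ zc Q := fun k hk => s.brk_left (ht.le hk) hu
  have hXz : X ≤ zc Q :=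
    sup_le ((closure_le _).2 (by rintro _ ⟨k, hk, rfl⟩; exact hYz k hk)) inf_le_left
  have hKX : ∀ k ∈ K, ∀ x ∈ X, k * x = x * k := by
    intro k hk x hx
    have : X ≤ centralizer ({k} : Set G) := by
      refine sup_le ((closure_le _).2 fun y hy => ?_) fun w hw => ?_
      · refine mem_centralizer_iff.2 fun v hv => ?_
        rw [Set.mem_singleton_iff.1 hv]
        exact (mem_centralizer_iff.1 hk.2 y hy).symm
      · refine mem_centralizer_iff.2 fun v hv => ?_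
        rw [Set.mem_singleton_iff.1 hv]
        exact mem_centralizer_iff.1 hw.2 k hk.1
    exact mem_centralizer_iff.1 (this hx) k rfl
  have hYB : ∀ k ∈ K, ⁅k, u⁆ ∈ W := by
    refine fun k hk => ⟨hYz k hk.1, mem_centralizer_iff.2 fun l hl => comm_of_eq_one ?_⟩
    rw [symm_comm (s.comm_A l hl.1 k hk.1.1) (s.comm_zc _ (hYz l hl) _ (hYz k hk.1))]
    exact comm_eq_one (mem_centralizer_iff.1 hk.2 _ ⟨l, hl, rfl⟩).symm
  have hinj : K.relIndex B ≤ W.relIndex X := by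
    refine relIndex_le_of_inj (fun k => ⁅k, u⁆)
      (fun k hk => mem_sup_left (subset_closure ⟨k, hk, rfl⟩)) fun h₁ hh₁ h₂ hh₂ he => ?_
    refine ⟨B.mul_mem (B.inv_mem hh₁) hh₂, mem_centralizer_iff.2 ?_⟩
    rintro _ ⟨k, hk, rfl⟩
    have hzk : ⁅k, ⁅h₁, u⁆⁻¹ * ⁅h₂, u⁆⁆ = 1 := comm_eq_one (mem_centralizer_iff.1 he.2 k hk)
    have e : ⁅h₁, ⁅k, u⁆⁆ = ⁅h₂, ⁅k, u⁆⁆ := by
      rw [symm_comm (s.comm_A h₁ hh₁.1 k hk.1) (s.comm_zc _ (hYz _ hh₁) _ (hYz _ hk)),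
        symm_comm (s.comm_A h₂ hh₂.1 k hk.1) (s.comm_zc _ (hYz _ hh₂) _ (hYz _ hk)),
        show ⁅k, ⁅h₂, u⁆⁆ = ⁅k, ⁅h₁, u⁆ * (⁅h₁, u⁆⁻¹ * ⁅h₂, u⁆)⁆ by rw [mul_inv_cancel_left],
        comm_mul_right, hzk]
      group
    have e' : h₁ * ⁅k, u⁆ * h₁⁻¹ = h₂ * ⁅k, u⁆ * h₂⁻¹ := by rw [conj_eq, conj_eq, e]
    calc ⁅k, u⁆ * (h₁⁻¹ * h₂) = h₁⁻¹ * (h₁ * ⁅k, u⁆ * h₁⁻¹) * h₂ := by group
      _ = _ := by rw [e']; group
  have hBW : ∀ k ∈ B, ∀ w ∈ W, k * w = w * k := fun k hk w hw => mem_centralizer_iff.1 hw.2 k hk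
  have hcard : Nat.card A ≤ Nat.card (K ⊔ X : Subgroup G) := by
    rw [card_sup_eq (le_normalizer_of_commute hKX)]
    have hgen : gen A z ≤ W := fun m hm =>
      ⟨s.gen_zc ht.mem hm, mem_centralizer_iff.2 fun k hk => (mem_centralizer_iff.1 hk.2 m hm).symm⟩
    have h1 : Nat.card A ≤ Nat.card B * (B ⊓ W).relIndex W := by
      rw [← card_sup_eq (le_normalizer_of_commute hBW)]
      exact (s.good (s.zc_le_S ht.mem) (s.gen_comm_zc ht.mem)).1.trans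
        (card_le_of_le (sup_le_sup_left hgen _))
    have h2 := relIndex_mul_relIndex (⊥ : Subgroup G) K B bot_le inf_le_left
    rw [relIndex_bot_left, relIndex_bot_left] at h2
    have hle : K ⊓ X ≤ B ⊓ W := fun v hv =>
      ⟨hv.1.1, hXz hv.2, mem_centralizer_iff.2 fun k hk => s.comm_A k hk.1 v hv.1.1.1⟩
    calc Nat.card A ≤ Nat.card B * (B ⊓ W).relIndex W := h1
      _ = Nat.card K * ((B ⊓ W).relIndex W * K.relIndex B) := by rw [← h2]; ring
      _ ≤ Nat.card K * ((B ⊓ W).relIndex W * W.relIndex X) :=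
        Nat.mul_le_mul_left _ (Nat.mul_le_mul_left _ hinj)
      _ ≤ _ := by
        refine Nat.mul_le_mul_left _ ?_
        rw [relIndex_mul_relIndex _ _ _ inf_le_right le_sup_right]
        exact relIndex_le_of_le_left hle
  have hmax := (s.dich (C := K) (inf_le_left.trans inf_le_left) hKX
    (fun a ha b hb => s.comm_zc a (hXz ha) b (hXz hb)) (hXz.trans (inf_le_left.trans s.Q_le)) hcard).1
  have hbu : ⁅b, u⁆ ∈ Q := s.conj_Q b hu
  have hv : ⁅c, ⁅b, u⁆⁆ ∈ K ⊔ X := by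
    refine mem_of_comm hmax (s.Q_le_S (s.conj_Q c hbu)) fun a ha => ?_
    obtain ⟨k, hk, x, hx, rfl⟩ := exists_mul_of_commute hKX ha
    have h1 : k * ⁅c, ⁅b, u⁆⁆ = ⁅c, ⁅b, u⁆⁆ * k := by
      refine comm_of_eq_one ?_
      rw [symm_comm (s.comm_A k hk.1.1 c hc)
          (zc_comm (s.brk_left (ht.le hk.1) hbu) (s.conj_Q c hbu)),
        symm_comm (s.comm_A k hk.1.1 b hb) (zc_comm (s.brk_left (ht.le hk.1) hu) hbu)]
      exact s.quad_fixed ht _ (hYB k hk) c hc b hb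
    exact (Commute.mul_left h1 (zc_comm (hXz hx) (s.conj_Q c hbu))).eq
  obtain ⟨k, hk, x, hx, he⟩ := exists_mul_of_commute hKX hv
  exact ⟨k, hk.1.1, x, hx, he⟩

/-- Cubic action on `Q / Z(Q)`. -/
theorem cubic_Q {z : G} (ht : Top p S P Q A z) {u : G} (hu : u ∈ Q) {a c b : G} (ha : a ∈ A) (hc : c ∈ A)
    (hb : b ∈ A) : ⁅a, ⁅c, ⁅b, u⁆⁆⁆ ∈ zc Q := by
  obtain ⟨h, hh, x, hx, he⟩ := s.step ht hu hc hb
  have hxz : x ∈ zc Q := by
    refine (sup_le ((closure_le _).2 ?_) inf_le_left) hx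
    rintro _ ⟨k, hk, rfl⟩
    exact s.brk_left (ht.le hk) hu
  rw [he, comm_mul_right, comm_eq_one (s.comm_A a ha h hh), one_mul]
  exact s.zc_normal.conj_mem _ (s.conj_zc a hxz) h

/-- Cubic action on the sections of `Z(Q)` centralised by `P`. -/
theorem cubic_zc {u : G} (hu : u ∈ zc Q) {V : Subgroup G} (hV : V.Normal)
    (hVu : ∀ x ∈ P, ⁅x, u⁆ ∈ V) {a c b : G} (ha : a ∈ A) (hc : c ∈ A) (hb : b ∈ A) :
    ⁅a, ⁅c, ⁅b, u⁆⁆⁆ ∈ V := by
  rcases s.small_or hu with h0 | hA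
  swap
  · rw [s.quad_of_le hA c hc b hb, commutatorElement_one_right]; exact V.one_mem
  obtain ⟨z, ht, hB0⟩ := exists_top (p := p) (S := S) (fixer A u) ⟨u, hu, h0, le_rfl⟩
  set B := fixer A z with hB
  set B₀ := fixer A u with hB₀
  set F := A ⊓ zc Q with hF
  set W := zc Q ⊓ centralizer (B : Set G) with hW
  set X := closure ((fun k => ⁅k, u⁆) '' (B : Set G)) ⊔ F with hX
  set L := A ⊓ centralizer (X : Set G) with hL
  have hXz : X ≤ zc Q :=
    sup_le ((closure_le _).2 (by rintro _ ⟨k, -, rfl⟩; exact s.conj_zc k hu)) inf_le_right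
  have hFX : F ≤ X := le_sup_right
  have hLX : ∀ l ∈ L, ∀ x ∈ X, l * x = x * l := fun l hl x hx =>
    (mem_centralizer_iff.1 hl.2 x hx).symm
  have hFW : F ≤ W := fun f hf =>
    ⟨hf.2, mem_centralizer_iff.2 fun k hk => s.comm_A k hk.1 f hf.1⟩
  have hgood := s.good (s.zc_le_S hu) (s.gen_comm_zc hu)
  -- every element of `W` is `[l, u]` modulo `F` with `l ∈ L`
  have hrep : ∀ w ∈ W, ∃ l ∈ L, ⁅l, u⁆⁻¹ * w ∈ F := by
    intro w hw
    have hw0 : w ∈ zc Q ⊓ centralizer (B₀ : Set G) := ⟨hw.1, centralizer_le hB0 hw.2⟩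
    obtain ⟨f, hf, m, hm, rfl⟩ :=
      exists_mul_of_commute (H := A ⊓ zc Q) (K := gen A u)
        (fun f hf m hm => s.comm_zc f hf.2 m (s.gen_zc hu hm)) (s.fixed_le hu hw0)
    obtain ⟨l, hl, hlm⟩ := hgood.2 m hm
    have hlz : ⁅l, u⁆ ∈ zc Q := s.conj_zc l hu
    have hmem : ⁅l, u⁆⁻¹ * (f * m) ∈ F := by
      rw [s.comm_zc f hf.2 m (s.gen_zc hu hm), ← mul_assoc]
      exact F.mul_mem ⟨hlm, (zc Q).mul_mem ((zc Q).inv_mem hlz) (s.gen_zc hu hm)⟩ hf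
    refine ⟨l, ⟨hl, ?_⟩, hmem⟩
    have hlB : ∀ k ∈ B, k * ⁅l, u⁆ = ⁅l, u⁆ * k := by
      intro k hk
      have h1 := mem_centralizer_iff.1 hw.2 k hk
      have h2 : k * (⁅l, u⁆⁻¹ * (f * m)) = ⁅l, u⁆⁻¹ * (f * m) * k := s.comm_A k hk.1 _ hmem.1
      have h3 : Commute k ((f * m) * (⁅l, u⁆⁻¹ * (f * m))⁻¹) :=
        Commute.mul_right h1 (Commute.inv_right h2)
      rw [show f * m * (⁅l, u⁆⁻¹ * (f * m))⁻¹ = ⁅l, u⁆ by group] at h3
      exact h3.eq
    have hX1 : X ≤ centralizer ({l} : Set G) := by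
      refine sup_le ((closure_le _).2 ?_) fun g hg => ?_
      · rintro _ ⟨k, hk, rfl⟩
        refine mem_centralizer_iff.2 fun v hv => ?_
        rw [Set.mem_singleton_iff.1 hv]
        refine comm_of_eq_one ?_
        rw [symm_comm (s.comm_A l hl k hk.1) (s.comm_zc _ hlz _ (s.conj_zc k hu))]
        exact comm_eq_one (hlB k hk)
      · refine mem_centralizer_iff.2 fun v hv => ?_
        rw [Set.mem_singleton_iff.1 hv]
        exact s.comm_A l hl g hg.1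
    exact mem_centralizer_iff.2 fun x hx => (mem_centralizer_iff.1 (hX1 hx) l rfl).symm
  -- injectivity
  have hinj : ∀ b₁ ∈ A, ∀ b₂ ∈ A, ⁅b₁, u⁆⁻¹ * ⁅b₂, u⁆ ∈ F → b₁⁻¹ * b₂ ∈ B₀ := by
    intro b₁ h₁ b₂ h₂ hz
    refine ⟨A.mul_mem (A.inv_mem h₁) h₂, mem_centralizer_closure ?_⟩
    rintro _ ⟨k, hk, rfl⟩
    have hzk : ⁅k, ⁅b₁, u⁆⁻¹ * ⁅b₂, u⁆⁆ = 1 := comm_eq_one (s.comm_A k hk _ hz.1)
    have e : ⁅b₁, ⁅k, u⁆⁆ = ⁅b₂, ⁅k, u⁆⁆ := by
      rw [symm_comm (s.comm_A b₁ h₁ k hk) (s.comm_zc _ (s.conj_zc _ hu) _ (s.conj_zc _ hu)),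
        symm_comm (s.comm_A b₂ h₂ k hk) (s.comm_zc _ (s.conj_zc _ hu) _ (s.conj_zc _ hu)),
        show ⁅k, ⁅b₂, u⁆⁆ = ⁅k, ⁅b₁, u⁆ * (⁅b₁, u⁆⁻¹ * ⁅b₂, u⁆)⁆ by rw [mul_inv_cancel_left],
        comm_mul_right, hzk]
      group
    have e' : b₁ * ⁅k, u⁆ * b₁⁻¹ = b₂ * ⁅k, u⁆ * b₂⁻¹ := by rw [conj_eq, conj_eq, e]
    calc ⁅k, u⁆ * (b₁⁻¹ * b₂) = b₁⁻¹ * (b₁ * ⁅k, u⁆ * b₁⁻¹) * b₂ := by group
      _ = _ := by rw [e']; group
  have hB₀L : B₀ ≤ L := by
    refine fun l hl => ⟨hl.1, mem_centralizer_iff.2 fun x hx => ?_⟩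
    have : X ≤ centralizer ({l} : Set G) := by
      refine sup_le ((closure_le _).2 ?_) fun g hg => ?_
      · rintro _ ⟨k, hk, rfl⟩
        refine mem_centralizer_iff.2 fun v hv => ?_
        rw [Set.mem_singleton_iff.1 hv]
        exact (mem_centralizer_iff.1 hl.2 _ (mem_gen hk.1 u)).symm
      · refine mem_centralizer_iff.2 fun v hv => ?_
        rw [Set.mem_singleton_iff.1 hv]
        exact s.comm_A l hl.1 g hg.1
    exact (mem_centralizer_iff.1 (this hx) l rfl).symm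
  have hcard : Nat.card A ≤ Nat.card (L ⊔ X : Subgroup G) := by
    rw [card_sup_eq (le_normalizer_of_commute hLX)]
    have hgenW : gen A z ≤ W := fun m hm =>
      ⟨s.gen_zc ht.mem hm, mem_centralizer_iff.2 fun k hk => (mem_centralizer_iff.1 hk.2 m hm).symm⟩
    have hBW : ∀ k ∈ B, ∀ w ∈ W, k * w = w * k := fun k hk w hw =>
      mem_centralizer_iff.1 hw.2 k hk
    have h1 : Nat.card A ≤ Nat.card B * F.relIndex W := by
      refine ((s.good (s.zc_le_S ht.mem) (s.gen_comm_zc ht.mem)).1.trans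
        (card_le_of_le (sup_le_sup_left hgenW _))).trans ?_
      rw [card_sup_eq (le_normalizer_of_commute hBW)]
      exact Nat.mul_le_mul_left _ (relIndex_le_of_le_left
        fun f hf => ⟨s.inf_zc_le_fixer ht.mem hf, hFW hf⟩)
    -- `[W : F] ≤ [L : B₀]`
    have h2 : F.relIndex W ≤ B₀.relIndex L := by
      let g : W ⧸ F.subgroupOf W → L ⧸ B₀.subgroupOf L := fun q =>
        ((⟨(hrep _ (q.out : W).2).choose, (hrep _ (q.out : W).2).choose_spec.1⟩ : L) :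
          L ⧸ B₀.subgroupOf L)
      refine Nat.card_le_card_of_injective g fun q₁ q₂ he => ?_
      obtain ⟨hl₁, hw₁⟩ := (hrep _ (q₁.out : W).2).choose_spec
      obtain ⟨hl₂, hw₂⟩ := (hrep _ (q₂.out : W).2).choose_spec
      set l₁ := (hrep _ (q₁.out : W).2).choose
      set l₂ := (hrep _ (q₂.out : W).2).choose
      have he' : ((⟨l₁, hl₁⟩ : L) : L ⧸ B₀.subgroupOf L) = ((⟨l₂, hl₂⟩ : L) : L ⧸ B₀.subgroupOf L) := he
      have h1' := QuotientGroup.eq.1 he'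
      have h1 : l₁⁻¹ * l₂ ∈ B₀ := h1'
      have h3 : ⁅l₁, u⁆⁻¹ * ⁅l₂, u⁆ ∈ F := by
        have e : ⁅l₂, u⁆ = l₁ * ⁅l₁⁻¹ * l₂, u⁆ * l₁⁻¹ * ⁅l₁, u⁆ := by
          rw [← comm_mul_left, mul_inv_cancel_left]
        obtain ⟨f, hf, hfeq⟩ : ∃ f ∈ F, ⁅l₁⁻¹ * l₂, u⁆ = f := by
          refine ⟨_, ⟨?_, s.conj_zc _ hu⟩, rfl⟩
          refine mem_of_comm s.mem (s.zc_le_S (s.conj_zc _ hu)) fun k hk => comm_of_eq_one ?_
          rw [symm_comm (s.comm_A k hk _ h1.1) (s.comm_zc _ (s.conj_zc _ hu) _ (s.conj_zc _ hu))]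
          exact comm_eq_one (mem_centralizer_iff.1 h1.2 _ (mem_gen hk u)).symm
        rw [e, hfeq, s.comm_A l₁ hl₁.1 f hf.1, mul_inv_cancel_right,
          s.comm_zc f hf.2 _ (s.conj_zc l₁ hu), inv_mul_cancel_left]
        exact hf
      rw [← q₁.out_eq', ← q₂.out_eq']
      refine QuotientGroup.eq.2 ?_
      show ((q₁.out : W) : G)⁻¹ * ((q₂.out : W) : G) ∈ F
      have := F.mul_mem (F.mul_mem (F.inv_mem hw₁) h3) hw₂
      rwa [show ∀ a b c d : G, (a⁻¹ * c)⁻¹ * (a⁻¹ * b) * (b⁻¹ * d) = c⁻¹ * d from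
        fun a b c d => by group] at this
    -- `[B : B₀] ≤ [X : F]`
    have h3 : B₀.relIndex B ≤ F.relIndex X :=
      relIndex_le_of_inj (fun k => ⁅k, u⁆) (fun k hk => mem_sup_left (subset_closure ⟨k, hk, rfl⟩))
        fun b₁ h₁ b₂ h₂ => hinj b₁ h₁.1 b₂ h₂.1
    have h4 := relIndex_mul_relIndex (⊥ : Subgroup G) B₀ B bot_le hB0
    have h5 := relIndex_mul_relIndex (⊥ : Subgroup G) B₀ L bot_le hB₀L
    rw [relIndex_bot_left, relIndex_bot_left] at h4 h5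
    have h6 : L ⊓ X ≤ F := fun v hv => ⟨hv.1.1, hXz hv.2⟩
    calc Nat.card A ≤ Nat.card B * F.relIndex W := h1
      _ ≤ Nat.card B₀ * B₀.relIndex B * B₀.relIndex L := by rw [h4]; exact Nat.mul_le_mul_left _ h2
      _ = Nat.card L * B₀.relIndex B := by rw [← h5]; ring
      _ ≤ Nat.card L * F.relIndex X := Nat.mul_le_mul_left _ h3
      _ ≤ _ := Nat.mul_le_mul_left _ (relIndex_le_of_le_left h6)
  rcases (s.dich (C := L) inf_le_left hLX (fun a ha b hb => s.comm_zc a (hXz ha) b (hXz hb))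
    (hXz.trans (inf_le_left.trans s.Q_le)) hcard).2 with hLP | ⟨-, hcov⟩
  · -- `L ≤ P`: three commutators land in `V`
    obtain ⟨h, hh, x, hx, he⟩ := s.step ht hu.1 hc hb
    have hWV : W ≤ F ⊔ V := fun w hw => by
      obtain ⟨l, hl, hlw⟩ := hrep w hw
      rw [show w = ⁅l, u⁆ * (⁅l, u⁆⁻¹ * w) by group]
      exact mul_mem (mem_sup_right (hVu l (hLP hl))) (mem_sup_left hlw)
    have hx' : x ∈ F ⊔ V := by
      refine (sup_le ((closure_le _).2 ?_) hWV) hx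
      rintro _ ⟨k, hk, rfl⟩
      exact mem_sup_right (hVu k (ht.le hk))
    have hhF : h ∈ F := by
      refine ⟨hh, ?_⟩
      have hxz : x ∈ zc Q := by
        refine (sup_le ((closure_le _).2 ?_) inf_le_left) hx
        rintro _ ⟨k, -, rfl⟩
        exact s.conj_zc k hu
      have := (zc Q).mul_mem (s.conj_zc c (s.conj_zc b hu)) ((zc Q).inv_mem hxz)
      rwa [he, mul_inv_cancel_right] at this
    have hv : ⁅c, ⁅b, u⁆⁆ ∈ F ⊔ V := he ▸ mul_mem (mem_sup_left hhF) hx'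
    have := hV
    obtain ⟨f, hf, v, hv, hfv⟩ := mem_sup_of_normal_right.1 hv
    rw [← hfv, comm_mul_right, comm_eq_one (s.comm_A a ha f hf.1), one_mul]
    refine hV.conj_mem _ ?_ f
    rw [commutatorElement_def]
    exact V.mul_mem (hV.conj_mem v hv a) (V.inv_mem hv)
  · -- `L` covers: `B = B₀`
    have hXA : X ≤ A := hcov (fun g hg h => ⟨hg.1, mem_centralizer_iff.2 fun x hx => (h x hx).symm⟩) hXz
    have hBB : B ≤ B₀ := by
      refine fun k hk => ⟨hk.1, mem_centralizer_closure ?_⟩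
      rintro _ ⟨l, hl, rfl⟩
      refine (comm_of_eq_one ?_).symm
      rw [symm_comm (s.comm_A k hk.1 l hl) (s.comm_zc _ (s.conj_zc _ hu) _ (s.conj_zc _ hu))]
      exact comm_eq_one (s.comm_A l hl _ (hXA (mem_sup_left (subset_closure ⟨k, hk, rfl⟩))))
    have hmem : ⁅b, u⁆ ∈ zc Q ⊓ centralizer (B : Set G) := ⟨s.conj_zc b hu,
      mem_centralizer_iff.2 fun k hk => (mem_centralizer_iff.1 (hBB hk).2 _ (mem_gen hb u)).symm⟩
    rw [s.quad_fixed ht _ hmem a ha c hc]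
    exact V.one_mem

end Cfg

end Cfsg.Agent.Lib.LA5.JDegree
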