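import Cfsg.Agent.Lib.LA5.JDegree.Quintic
import Cfsg.Agent.Lib.ConjFunctor.Degree

/-!
# Degree at most six on the chief factors inside `P`
-/

set_option autoImplicit false
set_option linter.unusedSectionVars false

namespace Cfsg.Agent.Lib.LA5.JDegree

open Subgroup Cfsg
open Cfsg.Agent.Lib.ConjFunctor.Chief
open Cfsg.Agent.Lib.ConjFunctor.Degree (dd)
open scoped commutatorElement

variable {G : Type*} [Group G] [Finite G] {p : ℕ} [Fact p.Prime] {S P Q A : Subgroup G}

theorem dd_eq (g x : G) : dd g x = ⁅g, x⁆ := (commutatorElement_def g x).symm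

/-- Degrees on a layer of `Q` from the values on elements. -/
theorem iter_le (s : Cfg p S P Q A) {g : G} {U V : Subgroup G} (hUV : IsChiefFactor U V) (hU : U ≤ P)
    {n : ℕ} (h : ∀ x ∈ U, (dd g)^[n] x ∈ V) : iterCommutator U (zpowers g) n ≤ V := by
  have := hUV.2.1
  have := hUV.2.2.1
  exact ConjFunctor.Degree.iterCommutator_le_of_forall U V g
    (chief_elementary hUV ((s.pgroup.to_le s.P_le).to_le hU)).1 h

/-- A normal part inside `Z` covers the layer or is killed. -/
theorem split (s : Cfg p S P Q A) {g : G} {U V : Subgroup G} (hUV : IsChiefFactor U V) (hU : U ≤ Q)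
    {i j : ℕ} (hji : j ≤ i) (hZ : ∀ U V : Subgroup G, IsChiefFactor U V → U ≤ zc Q → ∀ x ∈ U, (dd g)^[j] x ∈ V)
    (hQ : ∀ x ∈ Q, (dd g)^[i] x ∈ zc Q) : iterCommutator U (zpowers g) i ≤ V := by
  have hUn := hUV.2.1
  have hVn := hUV.2.2.1
  have := s.zc_normal
  have hab : ⁅U, U⁆ ≤ V := (chief_elementary hUV ((s.pgroup.to_le s.Q_le_S).to_le hU)).1
  refine iter_le s hUV (hU.trans s.Q_le) fun x hx => ?_
  have hn : ((U ⊓ zc Q) ⊔ V).Normal := Subgroup.sup_normal _ _
  rcases hUV.2.2.2 _ hn le_sup_right (sup_le inf_le_left hUV.1.le) with h1 | h1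
  · exact h1.le (mem_sup_left ⟨ConjFunctor.Degree.dd_iter_mem g hx i, hQ x (hU hx)⟩)
  · have hc := ConjFunctor.Degree.chief_of_cover hUV inf_le_left h1
    have hle : U ≤ ConjFunctor.Degree.layerKer U V g hab i := by
      conv_lhs => rw [← h1]
      refine sup_le (fun y hy => ⟨hy.1, ?_⟩) (ConjFunctor.Degree.le_layerKer U V g hab hUV.1.le i)
      obtain ⟨k, rfl⟩ := Nat.exists_eq_add_of_le hji
      rw [add_comm, Function.iterate_add_apply]
      exact ConjFunctor.Degree.dd_iter_mem g (mem_inf.1 (hZ _ _ hc inf_le_right y hy)).2 k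
    exact (hle hx).2

/-- An element of `A` has degree at most `6` on the chief factors inside `P`. -/
theorem degree_six (s : Cfg p S P Q A) (hQ4 : P ⊓ centralizer (Q : Set G) ≤ Q) {g : G} (hg : g ∈ A) :
    ∀ U V : Subgroup G, IsChiefFactor U V → U ≤ P → iterCommutator U (zpowers g) 6 ≤ V := by
  have := s.normal_P
  have := s.normal_Q
  have hPp := s.pgroup.to_le s.P_le
  intro U V hUV hU
  by_cases hq : ∀ z ∈ zc Q, gen A z ≤ A
  · refine ConjFunctor.Degree.degree_le (i := 5) (j := 2) hPp s.Q_le s.brk hQ4 g (by norm_num)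
      (by norm_num) (fun U V hUV hU => split s hUV hU (j := 2) (by norm_num) (fun U V hUV hU x hx => ?_)
        fun x hx => ?_) (fun U V hUV hU => iter_le s hUV (hU.trans (inf_le_left.trans s.Q_le)) fun x hx => ?_)
      U V hUV hU
    · show dd g (dd g x) ∈ V
      rw [dd_eq, dd_eq, s.quad_of_le (hq x (hU hx)) g hg g hg]
      exact V.one_mem
    · refine s.fil_five hq ?_
      have h : ∀ n, (dd g)^[n] x ∈ fil A Q n := by
        intro n
        induction n with
        | zero => exact hx
        | succ n ih => rw [Function.iterate_succ_apply', dd_eq]; exact commutator_mem_commutator hg ih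
      exact h 5
    · show dd g (dd g x) ∈ V
      rw [dd_eq, dd_eq, s.quad_of_le (hq x (hU hx)) g hg g hg]
      exact V.one_mem
  · push Not at hq
    obtain ⟨z, hz, hzA⟩ := hq
    obtain ⟨z₁, ht, -⟩ := Cfg.exists_top (p := p) (S := S) (⊥ : Subgroup G)
      ⟨z, hz, (s.small_or hz).resolve_right hzA, bot_le⟩
    have hZ : ∀ U V : Subgroup G, IsChiefFactor U V → U ≤ zc Q → ∀ x ∈ U, (dd g)^[3] x ∈ V := by
      intro U V hUV hU x hx
      show dd g (dd g (dd g x)) ∈ V
      rw [dd_eq, dd_eq, dd_eq]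
      refine s.cubic_zc (hU hx) hUV.2.2.1 (fun y hy => ?_) hg hg hg
      refine (le_of_eq (commutator_comm P U)).trans (ConjFunctor.Degree.commutator_le_of_chief hPp hUV
        (hU.trans (inf_le_left.trans s.Q_le))) (commutator_mem_commutator hy hx)
    have h := ConjFunctor.Degree.degree_le (i := 3) (j := 3) hPp s.Q_le s.brk hQ4 g (by norm_num)
      (by norm_num) (fun U V hUV hU => split s hUV hU (j := 3) le_rfl hZ fun x hx => by
        show dd g (dd g (dd g x)) ∈ zc Q
        rw [dd_eq, dd_eq, dd_eq]; exact s.cubic_Q ht hx hg hg hg)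
      (fun U V hUV hU => iter_le s hUV (hU.trans (inf_le_left.trans s.Q_le)) (hZ U V hUV hU))
      U V hUV hU
    have := hUV.2.2.1
    exact (Subgroup.commutator_mono h le_rfl).trans (commutator_le_left V (zpowers g))

end Cfsg.Agent.Lib.LA5.JDegree
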