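import Cfsg.Agent.Lib.LA5.JDegree.Cubic

/-!
# The case where `A` is quadratic on `Z(Q)`: five commutators

If every `[A, z]`, `z ∈ Z(Q)`, lies in `A`, five commutators with `A` carry `Q` into `Z(Q)`:
otherwise a long commutator `v`, with `C = A ∩ C([A, v])`, gives the abelian group
`C C_Z(C) [A, v] ⟨v⟩` larger than `A`.
-/

set_option autoImplicit false
set_option linter.unusedSectionVars false

namespace Cfsg.Agent.Lib.LA5.JDegree

open Subgroup
open Cfsg.Agent.Lib.Transfer.AbelianJ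
open scoped commutatorElement

variable {G : Type*} [Group G]

/-- `[A, ..., A, Q]` with `j` entries `A`. -/
def fil (A Q : Subgroup G) : ℕ → Subgroup G
  | 0 => Q
  | j + 1 => ⁅A, fil A Q j⁆

variable [Finite G] {p : ℕ} {S P Q A : Subgroup G}

namespace Cfg

variable [Fact p.Prime] (s : Cfg p S P Q A)
include s

theorem fil_succ_le : ∀ j : ℕ, fil A Q (j + 1) ≤ fil A Q j
  | 0 => commutator_le.2 fun b _ x hx => s.conj_Q b hx
  | j + 1 => commutator_mono le_rfl (fil_succ_le j)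

theorem fil_antitone {i j : ℕ} (h : i ≤ j) : fil A Q j ≤ fil A Q i := by
  induction h with
  | refl => exact le_rfl
  | step _ ih => exact (s.fil_succ_le _).trans ih

theorem fil_le_Q (j : ℕ) : fil A Q j ≤ Q := s.fil_antitone (Nat.zero_le j)

theorem fil_conj {b x : G} (hb : b ∈ A) {j : ℕ} (hx : x ∈ fil A Q j) : b * x * b⁻¹ ∈ fil A Q j := by
  rw [conj_eq]
  exact mul_mem (s.fil_succ_le j (commutator_mem_commutator hb hx)) hx

theorem exists_fil_le : ∃ k, fil A Q k ≤ zc Q := by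
  obtain ⟨N, hN⟩ := (Subgroup.isNilpotent_iff_lowerCentralSeries S).1 s.pgroup.isNilpotent
  have h : ∀ j, fil A Q j ≤ S.lowerCentralSeries j := by
    intro j
    induction j with
    | zero => exact s.Q_le_S
    | succ j ih =>
      rw [Subgroup.lowerCentralSeries_succ, commutator_comm (S.lowerCentralSeries j)]
      exact commutator_mono s.mem.1 ih
  exact ⟨N, (h N).trans (hN.le.trans bot_le)⟩

theorem comm_Q {x y : G} (hx : x ∈ Q) (hy : y ∈ Q) : ⁅x, y⁆ ∈ zc Q := s.brk_left (s.Q_le hx) hy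

/-- `{x ∈ Q : [x, y] ∈ K}`. -/
def relL (K : Subgroup G) {y : G} (hy : y ∈ Q) : Subgroup G where
  carrier := {x | x ∈ Q ∧ ⁅x, y⁆ ∈ K}
  one_mem' := ⟨Q.one_mem, by rw [commutatorElement_one_left]; exact K.one_mem⟩
  mul_mem' := fun {x x'} hx hx' => ⟨Q.mul_mem hx.1 hx'.1, by
    rw [comm_mul_left, ← zc_comm (s.comm_Q hx'.1 hy) hx.1, mul_inv_cancel_right]
    exact K.mul_mem hx'.2 hx.2⟩
  inv_mem' := fun {x} hx => ⟨Q.inv_mem hx.1, by
    have h1 := comm_mul_left x⁻¹ x y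
    rw [inv_mul_cancel, commutatorElement_one_left, ← zc_comm (s.comm_Q hx.1 hy) (Q.inv_mem hx.1),
      mul_inv_cancel_right] at h1
    rw [eq_inv_of_mul_eq_one_right h1.symm]
    exact K.inv_mem hx.2⟩

/-- `{x ∈ Q : [A, x] ⊆ L}`. -/
def preA (L : Subgroup G) (hZL : zc Q ≤ L) (hLQ : L ≤ Q) : Subgroup G where
  carrier := {x | x ∈ Q ∧ ∀ b ∈ A, ⁅b, x⁆ ∈ L}
  one_mem' := ⟨Q.one_mem, fun b _ => by rw [commutatorElement_one_right]; exact L.one_mem⟩
  mul_mem' := fun {x x'} hx hx' => ⟨Q.mul_mem hx.1 hx'.1, fun b hb => by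
    rw [comm_mul_right, conj_eq x]
    exact L.mul_mem (hx.2 b hb) (L.mul_mem (hZL (s.comm_Q hx.1 (hLQ (hx'.2 b hb)))) (hx'.2 b hb))⟩
  inv_mem' := fun {x} hx => ⟨Q.inv_mem hx.1, fun b hb => by
    rw [show ⁅b, x⁻¹⁆ = x⁻¹ * ⁅b, x⁆⁻¹ * x⁻¹⁻¹ by simp only [commutatorElement_def]; group,
      conj_eq x⁻¹]
    exact L.mul_mem (hZL (s.comm_Q (Q.inv_mem hx.1) (hLQ (L.inv_mem (hx.2 b hb)))))
      (L.inv_mem (hx.2 b hb))⟩

variable (hq : ∀ z ∈ zc Q, gen A z ≤ A)
include hq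

theorem T_fixed {z b c : G} (hz : z ∈ zc Q) (hb : b ∈ A) (hc : c ∈ A) : ⁅b, z⁆ * c = c * ⁅b, z⁆ :=
  (s.comm_A c hc _ (hq z hz (mem_gen hb z))).symm

/-- The layers commute far down. -/
theorem isotropy {k : ℕ} (hk : fil A Q k ≤ zc Q) : ∀ i j : ℕ, ∀ x ∈ fil A Q i, ∀ y ∈ fil A Q j,
    (k + 1 ≤ i + j → ⁅x, y⁆ = 1) ∧ (k ≤ i + j → ⁅x, y⁆ ∈ centralizer (A : Set G)) := by
  intro i
  induction i with
  | zero =>
    intro j x hx y hy
    have h1 : k ≤ j → ⁅x, y⁆ = 1 := fun hj =>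
      comm_eq_one (zc_comm (hk (s.fil_antitone hj hy)) (s.fil_le_Q 0 hx)).symm
    exact ⟨fun h => h1 (by omega), fun h => (h1 (by omega)).symm ▸ one_mem _⟩
  | succ i ih =>
    intro j x hx y hy
    have hyQ := s.fil_le_Q j hy
    have key : ∀ b ∈ A, ∀ x₀ ∈ fil A Q i, ∃ c d : G,
        ⁅⁅b, x₀⁆, y⁆ = d⁻¹ * ⁅b, c⁆ ∧ c ∈ zc Q ∧
        (k ≤ i + j → c ∈ centralizer (A : Set G)) ∧
        (k + 1 ≤ i + (j + 1) → d = 1) ∧
        (k ≤ i + (j + 1) → d ∈ centralizer (A : Set G)) := by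
      intro b hb x₀ hx₀
      have hy' : b⁻¹ * y * b ∈ fil A Q j := by
        have h := s.fil_conj (A.inv_mem hb) hy
        rwa [inv_inv] at h
      set y' := b⁻¹ * y * b with hy'def
      set c := ⁅x₀, y'⁆ with hc
      set d := ⁅x₀, ⁅b, y'⁆⁆ with hd
      have hx₀Q := s.fil_le_Q i hx₀
      have hy'Q := s.fil_le_Q j hy'
      have hT : ⁅b, y'⁆ ∈ fil A Q (j + 1) := commutator_mem_commutator hb hy'
      have hTQ := s.fil_le_Q _ hT
      have hcz : c ∈ zc Q := s.comm_Q hx₀Q hy'Q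
      have hdz : d ∈ zc Q := s.comm_Q hx₀Q hTQ
      refine ⟨c, d, ?_, hcz, (ih j x₀ hx₀ y' hy').2, (ih (j + 1) x₀ hx₀ _ hT).1,
        (ih (j + 1) x₀ hx₀ _ hT).2⟩
      have hyeq : y = ⁅b, y'⁆ * y' := by rw [← conj_eq, hy'def]; group
      have e1 : ⁅b * x₀ * b⁻¹, y⁆ = b * c * b⁻¹ := by
        rw [show y = b * y' * b⁻¹ by rw [hy'def]; group, ← conjugate_commutatorElement]
      have hbc : b * c * b⁻¹ ∈ zc Q := s.zc_normal.conj_mem c hcz b
      have e2 : ⁅x₀, y⁆ = d * c := by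
        rw [hyeq, comm_mul_right, ← zc_comm hcz hTQ, mul_inv_cancel_right]
      have e3 : ⁅x₀⁻¹, y⁆ = (d * c)⁻¹ := by
        have h1 := comm_mul_left x₀⁻¹ x₀ y
        rw [inv_mul_cancel, commutatorElement_one_left, ← zc_comm (s.comm_Q hx₀Q hyQ) (Q.inv_mem hx₀Q),
          mul_inv_cancel_right, e2] at h1
        exact eq_inv_of_mul_eq_one_right h1.symm
      have hbx : b * x₀ * b⁻¹ ∈ Q := s.normal_Q.conj_mem _ hx₀Q b
      calc ⁅⁅b, x₀⁆, y⁆ = ⁅b * x₀ * b⁻¹ * x₀⁻¹, y⁆ := rfl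
        _ = (b * x₀ * b⁻¹) * ⁅x₀⁻¹, y⁆ * (b * x₀ * b⁻¹)⁻¹ * ⁅b * x₀ * b⁻¹, y⁆ := comm_mul_left _ _ _
        _ = ⁅x₀⁻¹, y⁆ * (b * c * b⁻¹) := by
          rw [← zc_comm (s.comm_Q (Q.inv_mem hx₀Q) hyQ) hbx, mul_inv_cancel_right, e1]
        _ = (d * c)⁻¹ * (b * c * b⁻¹) := by rw [e3]
        _ = d⁻¹ * ((b * c * b⁻¹) * c⁻¹) := by
          rw [s.comm_zc d hdz c hcz, mul_inv_rev, s.comm_zc _ hbc _ (inv_mem hcz)]; group
        _ = _ := rfl
    refine ⟨fun h => ?_, fun h => ?_⟩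
    · have hle : fil A Q (i + 1) ≤ s.relL ⊥ hyQ := by
        refine commutator_le.2 fun b hb x₀ hx₀ => ⟨s.conj_Q b (s.fil_le_Q i hx₀), ?_⟩
        obtain ⟨c, d, he, -, h1, h2, -⟩ := key b hb x₀ hx₀
        rw [he, h2 (by omega),
          comm_eq_one (mem_centralizer_iff.1 (h1 (by omega)) b hb), inv_one, one_mul]
        exact one_mem _
      exact mem_bot.1 (hle hx).2
    · have hle : fil A Q (i + 1) ≤ s.relL (centralizer (A : Set G)) hyQ := by
        refine commutator_le.2 fun b hb x₀ hx₀ => ⟨s.conj_Q b (s.fil_le_Q i hx₀), ?_⟩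
        obtain ⟨c, d, he, hcz, -, -, h3⟩ := key b hb x₀ hx₀
        rw [he]
        refine mul_mem (inv_mem (h3 (by omega))) (mem_centralizer_iff.2 fun a ha => ?_)
        exact (s.T_fixed hq hcz hb ha).symm
      exact (hle hx).2

/-- An element of `A` moving `Q` into its fixed part of `Z(Q)` fixes `[A, A, Q]`. -/
theorem fixes_fil_two {h : G} (hh : h ∈ A) (hhP : h ∈ P) {y : G} (hy : y ∈ fil A Q 2) : h * y = y * h := by
  have hsymm : ∀ b ∈ A, ∀ x ∈ Q, ⁅h, ⁅b, x⁆⁆ = ⁅b, ⁅h, x⁆⁆ := fun b hb x hx =>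
    symm_comm (s.comm_A h hh b hb) (zc_comm (s.brk_left hhP hx) (s.conj_Q b hx))
  -- the commutators of `h` with `[A, Q]` lie in `A`
  let E₁ : Subgroup G :=
    { carrier := {x | x ∈ Q ∧ ⁅h, x⁆ ∈ A}
      one_mem' := ⟨Q.one_mem, by rw [commutatorElement_one_right]; exact A.one_mem⟩
      mul_mem' := fun {x x'} hx hx' => ⟨Q.mul_mem hx.1 hx'.1, by
        rw [comm_mul_right, ← zc_comm (s.brk_left hhP hx'.1) hx.1, mul_inv_cancel_right]
        exact A.mul_mem hx.2 hx'.2⟩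
      inv_mem' := fun {x} hx => ⟨Q.inv_mem hx.1, by
        have h1 := comm_mul_right h x x⁻¹
        rw [mul_inv_cancel, commutatorElement_one_right,
          ← zc_comm (s.brk_left hhP (Q.inv_mem hx.1)) hx.1, mul_inv_cancel_right] at h1
        rw [eq_inv_of_mul_eq_one_right h1.symm]
        exact A.inv_mem hx.2⟩ }
  have h1 : fil A Q 1 ≤ E₁ := by
    refine commutator_le.2 fun b hb x hx => ⟨s.conj_Q b hx, ?_⟩
    rw [hsymm b hb x hx]
    exact hq _ (s.brk_left hhP hx) (mem_gen hb _)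
  have h2 : fil A Q 2 ≤ centralizer ({h} : Set G) := by
    refine commutator_le.2 fun b hb x hx => mem_centralizer_iff.2 fun v hv => ?_
    rw [Set.mem_singleton_iff.1 hv]
    refine comm_of_eq_one ?_
    rw [hsymm b hb x (h1 hx).1]
    exact comm_eq_one (s.comm_A b hb _ (h1 hx).2)
  exact mem_centralizer_iff.1 (h2 hy) h rfl

/-- Five commutators with `A` carry `Q` into `Z(Q)`. -/
theorem fil_five : fil A Q 5 ≤ zc Q := by
  classical
  have hex := s.exists_fil_le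
  set k := Nat.find hex with hkdef
  have hk : fil A Q k ≤ zc Q := Nat.find_spec hex
  by_cases h5 : k ≤ 5
  · exact (s.fil_antitone h5).trans hk
  exfalso
  obtain ⟨j, hj⟩ : ∃ j, k = j + 3 := ⟨k - 3, by omega⟩
  set E1 := s.preA (zc Q) le_rfl inf_le_left with hE1
  have hE1Z : zc Q ≤ E1 := fun z hz => ⟨hz.1, fun b _ => s.conj_zc b hz⟩
  set E2 := s.preA E1 hE1Z (fun x hx => hx.1) with hE2
  -- an element far down with a nontrivial double commutator
  have hvex : ∃ v ∈ fil A Q j, v ∉ E2 := by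
    by_contra hne
    push Not at hne
    have h1 : fil A Q (j + 1) ≤ E1 := commutator_le.2 fun b hb x hx => (hne x hx).2 b hb
    have h2 : fil A Q (j + 2) ≤ zc Q := commutator_le.2 fun c hc x hx => (h1 hx).2 c hc
    have := Nat.find_min' hex h2
    omega
  obtain ⟨v, hv, hvE⟩ := hvex
  have hvQ := s.fil_le_Q j hv
  set M := gen A v with hM
  have hMfil : M ≤ fil A Q (j + 1) := gen_le fun b hb => commutator_mem_commutator hb hv
  have hMQ : M ≤ Q := hMfil.trans (s.fil_le_Q _)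
  have hMc : ∀ a ∈ M, ∀ b ∈ M, a * b = b * a := fun a ha b hb =>
    comm_of_eq_one ((s.isotropy hq hk (j + 1) (j + 1) a (hMfil ha) b (hMfil hb)).1 (by omega))
  have hvM : ∀ m ∈ M, v * m = m * v := fun m hm =>
    comm_of_eq_one ((s.isotropy hq hk j (j + 1) v hv m (hMfil hm)).1 (by omega))
  set C := A ⊓ centralizer (M : Set G) with hC
  have hCM : ∀ c ∈ C, ∀ m ∈ M, c * m = m * c := fun c hc m hm => (mem_centralizer_iff.1 hc.2 m hm).symm
  have hgood := (s.good (s.Q_le_S hvQ) hMc).1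
  have hCP : C ≤ P := by
    refine (s.dich (C := C) inf_le_left hCM hMc (hMQ.trans s.Q_le) hgood).2.resolve_right fun h => hvE ?_
    refine ⟨hvQ, fun b hb => ⟨hMQ (mem_gen hb v), fun c hc => ?_⟩⟩
    have hmem : c ∈ C ⊔ P := by rw [h.1]; exact mem_sup_left hc
    haveI := s.normal_P
    obtain ⟨c', hc', q, hq', rfl⟩ := mem_sup_of_normal_right.1 hmem
    have hm := mem_gen hb v
    rw [comm_mul_left, comm_eq_one (hCM c' hc' _ hm), mul_one]
    exact s.zc_normal.conj_mem _ (s.brk_left hq' (hMQ hm)) c'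
  set W : Subgroup G → Subgroup G := fun B => zc Q ⊓ centralizer (B : Set G) with hW
  have haA : C ≤ A := inf_le_left
  have haP : C ≤ P := hCP
  have haW : ∀ h ∈ C, ∀ w ∈ W C, h * w = w * h := fun h hh w hw => mem_centralizer_iff.1 hw.2 h hh
  set H := C ⊔ W C with hH
  have hav : ∀ h ∈ C, h * v = v * h := fun h hh =>
    s.fixes_fil_two hq (haA hh) (haP hh) (s.fil_antitone (by omega) hv)
  have hHM : ∀ y ∈ H, ∀ m ∈ M, y * m = m * y := by
    intro y hy m hm
    obtain ⟨h, hh, w, hw, rfl⟩ := exists_mul_of_commute haW hy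
    exact (Commute.mul_left (hCM h hh m hm) (zc_comm hw.1 (hMQ hm))).eq
  have hHv : ∀ y ∈ H, y * v = v * y := by
    intro y hy
    obtain ⟨h, hh, w, hw, rfl⟩ := exists_mul_of_commute haW hy
    exact (Commute.mul_left (hav h hh) (zc_comm hw.1 hvQ)).eq
  have hHc : ∀ a ∈ H, ∀ b ∈ H, a * b = b * a :=
    sup_commutative (fun a ha b hb => s.comm_A a (haA ha) b (haA hb))
      (fun a ha b hb => s.comm_zc a ha.1 b hb.1) haW
  have hHS : H ≤ S := sup_le (haA.trans s.mem.1) (inf_le_left.trans s.zc_le_S)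
  -- counting
  have hcard : Nat.card A ≤ Nat.card (H ⊔ M : Subgroup G) := by
    set W' := W C with hW'
    have hAW : A ≤ normalizer (W' : Set G) := fun a ha => mem_normalizer_fintype fun w hw => by
      refine ⟨s.zc_normal.conj_mem w hw.1 a, mem_centralizer_iff.2 fun c hc => ?_⟩
      have h1 : Commute c a := s.comm_A c hc.1 a ha
      have h2 : Commute c w := mem_centralizer_iff.1 hw.2 c hc
      exact ((h1.mul_right h2).mul_right h1.inv_right).eq
    have hCW : ∀ c ∈ C, ∀ w ∈ W', c * w = w * c := fun c hc w hw => mem_centralizer_iff.1 hw.2 c hc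
    set L := M ⊓ (A ⊔ W') with hL
    have hsupA : A.relIndex (A ⊔ W') = (C ⊓ W').relIndex W' := by
      have h1 := card_sup_eq hAW
      have h2 := relIndex_mul_relIndex (⊥ : Subgroup G) A (A ⊔ W') bot_le le_sup_left
      rw [relIndex_bot_left, relIndex_bot_left, h1] at h2
      rw [Nat.eq_of_mul_eq_mul_left Nat.card_pos h2]
      congr 1
      refine le_antisymm (fun x hx => ⟨⟨hx.1, mem_centralizer_iff.2 fun m hm => ?_⟩, hx.2⟩)
        (inf_le_inf_right _ inf_le_left)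
      exact (zc_comm hx.2.1 (hMQ hm)).symm
    have hAM : (A ⊓ M).relIndex M ≤ L.relIndex M * (C ⊓ W').relIndex W' := by
      rw [← hsupA, mul_comm, ← relIndex_mul_relIndex (A ⊓ M) L M
        (le_inf inf_le_right (inf_le_left.trans le_sup_left)) inf_le_left]
      refine Nat.mul_le_mul_right _ ?_
      rw [show A ⊓ M = A ⊓ L by
        rw [hL, ← inf_assoc, inf_comm A M, inf_assoc, inf_sup_self]]
      rw [inf_relIndex_right]
      exact relIndex_le_of_le_right inf_le_right (relIndex_pos _ _).ne'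
    have hHL : H ⊓ M ≤ L := by
      refine fun y hy => ⟨hy.2, ?_⟩
      obtain ⟨h, hh, w, hw, rfl⟩ := exists_mul_of_commute haW hy.1
      refine mul_mem (mem_sup_left (haA hh)) (mem_sup_right ⟨hw.1, mem_centralizer_iff.2 fun c hc => ?_⟩)
      have h1 : Commute c (h * w) := hCM c hc _ hy.2
      have h2 : Commute c h := s.comm_A c hc.1 h (haA hh)
      have h3 := h2.inv_right.mul_right h1
      rwa [inv_mul_cancel_left] at h3
    have hA : Nat.card A ≤ Nat.card C * (A ⊓ M).relIndex M := by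
      refine hgood.trans (le_of_eq ?_)
      rw [card_sup_eq (le_normalizer_of_commute hCM)]
      congr 2
      exact le_antisymm (inf_le_inf_right _ inf_le_left)
        fun x hx => ⟨⟨hx.1, mem_centralizer_iff.2 fun m hm => hMc m hm x hx.2⟩, hx.2⟩
    calc Nat.card A ≤ Nat.card C * (A ⊓ M).relIndex M := hA
      _ ≤ Nat.card C * (L.relIndex M * (C ⊓ W').relIndex W') := Nat.mul_le_mul_left _ hAM
      _ = Nat.card H * L.relIndex M := by
        show _ = Nat.card (C ⊔ W' : Subgroup G) * L.relIndex M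
        rw [card_sup_eq (le_normalizer_of_commute hCW)]; ring
      _ ≤ Nat.card H * (H ⊓ M).relIndex M :=
        Nat.mul_le_mul_left _ (relIndex_le_of_le_left hHL)
      _ = _ := (card_sup_eq (le_normalizer_of_commute hHM)).symm
  -- maximality
  have hDc := sup_commutative (sup_commutative hHc hMc hHM) (comm_of_isMulCommutative (H := zpowers v) inferInstance)
    (fun y hy z hz => by
      obtain ⟨n, rfl⟩ := mem_zpowers_iff.1 hz
      obtain ⟨h, hh, w, hw, rfl⟩ := exists_mul_of_commute hHM hy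
      exact (Commute.zpow_right (Commute.mul_left (hHv h hh) (hvM w hw).symm) n).eq)
  have hD := s.mem.2.2 _ (sup_le (sup_le hHS (hMQ.trans s.Q_le_S))
    (zpowers_le.2 (s.Q_le_S hvQ))) (isMulCommutative_of hDc)
  have heq := eq_of_le_of_card_ge (le_sup_left : H ⊔ M ≤ H ⊔ M ⊔ zpowers v) (hD.trans hcard)
  have hvmem : v ∈ H ⊔ M := heq.symm ▸ mem_sup_right (mem_zpowers v)
  obtain ⟨y, hy, n, hn, hv'⟩ := exists_mul_of_commute hHM hvmem
  obtain ⟨h, hh, w, hw, rfl⟩ := exists_mul_of_commute haW hy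
  refine hvE (hv' ▸ mul_mem (mul_mem ?_ ?_) ?_)
  · have hhQ : h ∈ Q := by
      have := Q.mul_mem (Q.mul_mem hvQ (Q.inv_mem (hMQ hn))) (Q.inv_mem hw.1.1)
      rwa [hv', mul_inv_cancel_right, mul_inv_cancel_right] at this
    refine ⟨hhQ, fun b hb => ?_⟩
    rw [comm_eq_one (s.comm_A b hb h (haA hh))]
    exact one_mem _
  · exact ⟨hw.1.1, fun b _ => hE1Z (s.conj_zc b hw.1)⟩
  · refine ⟨hMQ hn, fun b hb => ?_⟩
    have h1 : ⁅b, n⁆ ∈ fil A Q (j + 2) := commutator_mem_commutator hb (hMfil hn)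
    exact ⟨s.fil_le_Q _ h1, fun c hc => hk (hj ▸ commutator_mem_commutator hc h1)⟩

end Cfg

end Cfsg.Agent.Lib.LA5.JDegree
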