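import Cfsg.Agent.Lib.Transfer.Tate
import Cfsg.Agent.Lib.PGroups.Frattini

/-!
# From `S ∩ G' = S ∩ M'` to `G / O^p(G) ≅ M / O^p(M)`

Tate's transfer argument relative to a normal subgroup of the Sylow subgroup.
-/

set_option autoImplicit false
set_option linter.unusedSectionVars false

open Cfsg
open scoped Pointwise commutatorElement IsMulCommutative

namespace Cfsg.Agent.Lib.LA5.JDegree.TateIso

open Cfsg.Agent.Lib.Transfer.PResidual Cfsg.Agent.Lib.Transfer.Fusion

variable {G : Type*} [Group G] [Finite G] {p : ℕ} [hp : Fact p.Prime]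

/-- If `T ≤ P ∩ O^p(G)` is normal in `P` and covers it modulo `Φ(P)`, the two are equal. -/
theorem inf_pResidual_le_of_le_sup_frattini (P : Sylow p G) (T : Subgroup G) (hTP : T ≤ (P : Subgroup G))
    (hTn : (P : Subgroup G) ≤ Subgroup.normalizer (T : Set G)) (hTK : T ≤ pResidual p G)
    (h : pResidual p G ⊓ (P : Subgroup G) ≤ T ⊔ (frattini P).map (P : Subgroup G).subtype) :
    pResidual p G ⊓ (P : Subgroup G) ≤ T := by
  by_contra hne
  set K := pResidual p G with hK
  set R' : Subgroup (P : Subgroup G) := K.subgroupOf (P : Subgroup G) with hR'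
  haveI hT' : (T.subgroupOf (P : Subgroup G)).Normal :=
    (Subgroup.normal_subgroupOf_iff_le_normalizer hTP).2 hTn
  haveI hS : (⁅R', (⊤ : Subgroup (P : Subgroup G))⁆ ⊔ T.subgroupOf (P : Subgroup G)).Normal :=
    Subgroup.sup_normal _ _
  set S' : Subgroup (P : Subgroup G) := ⁅R', ⊤⁆ ⊔ T.subgroupOf (P : Subgroup G) with hS'
  let mkS := QuotientGroup.mk' S'
  let proj : (P : Subgroup G) →* G ⧸ K := (QuotientGroup.mk' K).comp (P : Subgroup G).subtype
  have hprojker : proj.ker = R' := by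
    ext z; simp [proj, MonoidHom.mem_ker, hR', Subgroup.mem_subgroupOf]
  have hSR : S' ≤ R' := sup_le (Subgroup.commutator_le_left _ _) fun z hz => hTK hz
  let π : (P : Subgroup G) ⧸ S' →* G ⧸ K := QuotientGroup.lift S' proj (hprojker ▸ hSR)
  set A : Subgroup ((P : Subgroup G) ⧸ S') := π.ker with hA
  have hAmap : A = R'.map mkS := by
    apply le_antisymm
    · intro q hq
      obtain ⟨z, rfl⟩ := QuotientGroup.mk'_surjective S' q
      refine ⟨z, ?_, rfl⟩
      rw [← hprojker]; simpa [hA, π] using hq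
    · rintro _ ⟨z, hz, rfl⟩
      have hz' : z ∈ proj.ker := hprojker ▸ hz
      simpa [hA, π, mkS] using hz'
  have hAc : ∀ a ∈ A, ∀ q, q * a = a * q := by
    intro a ha q
    rw [hAmap] at ha
    obtain ⟨r, hr, rfl⟩ := ha
    obtain ⟨z, rfl⟩ := QuotientGroup.mk'_surjective S' q
    symm
    rw [← commutatorElement_eq_one_iff_mul_comm, ← map_commutatorElement]
    exact (QuotientGroup.eq_one_iff _).2
      (Subgroup.mem_sup_left (Subgroup.commutator_mem_commutator hr (Subgroup.mem_top z)))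
  have hQ : IsPGroup p ((P : Subgroup G) ⧸ S') := P.2.to_quotient S'
  have hAbot : A ≠ ⊥ := by
    intro hbot
    have hle : R' ≤ S' := by
      intro z hz
      have : mkS z ∈ A := hAmap ▸ ⟨z, hz, rfl⟩
      rw [hbot, Subgroup.mem_bot] at this
      exact (QuotientGroup.eq_one_iff z).1 this
    have h1 := Subgroup.map_mono (f := (P : Subgroup G).subtype) hle
    rw [hS', Subgroup.map_sup, Subgroup.map_commutator, hR', Subgroup.subgroupOf_map_subtype,
      ← MonoidHom.range_eq_map, Subgroup.range_subtype, Subgroup.map_subgroupOf_eq_of_le hTP] at h1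
    exact hne (le_of_le_commutator_sup P.2 inf_le_right hTP hTn h1)
  -- the pullback
  let E : Subgroup (G × ((P : Subgroup G) ⧸ S')) :=
    ((QuotientGroup.mk' K).comp (MonoidHom.fst _ _)).eqLocus (π.comp (MonoidHom.snd _ _))
  let fstE : E →* G := (MonoidHom.fst _ _).comp E.subtype
  let sndE : E →* (P : Subgroup G) ⧸ S' := (MonoidHom.snd _ _).comp E.subtype
  have hE : ∀ e : E, QuotientGroup.mk' K (fstE e) = π (sndE e) := fun e => e.2
  have hfst : Function.Surjective fstE := by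
    intro g
    obtain ⟨k, hk, z, hz, rfl⟩ := exists_mul_sylow P g
    refine ⟨⟨(k * z, mkS ⟨z, hz⟩), ?_⟩, rfl⟩
    show QuotientGroup.mk' K (k * z) = π (mkS ⟨z, hz⟩)
    rw [map_mul, show QuotientGroup.mk' K k = 1 from (QuotientGroup.eq_one_iff k).2 hk, one_mul]
    rfl
  let P' : Subgroup E := (P : Subgroup G).comap fstE
  have hdiff : ∀ e : P', sndE e * (mkS ⟨fstE e, e.2⟩)⁻¹ ∈ A := by
    intro e
    rw [hA, MonoidHom.mem_ker, map_mul, map_inv, mul_inv_eq_one, ← hE]
    rfl
  haveI hAcomm : IsMulCommutative A := ⟨⟨fun a b => Subtype.ext (hAc b b.2 a)⟩⟩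
  let φ : P' →* A :=
    { toFun := fun e => ⟨sndE e * (mkS ⟨fstE e, e.2⟩)⁻¹, hdiff e⟩
      map_one' := by
        apply Subtype.ext
        simp only [OneMemClass.coe_one, map_one]
        rw [show (⟨(1 : G), _⟩ : (P : Subgroup G)) = 1 from rfl, map_one, inv_one, one_mul]
      map_mul' := by
        intro e f
        apply Subtype.ext
        simp only [Subgroup.coe_mul, map_mul]
        rw [show (⟨fstE e * fstE f, _⟩ : (P : Subgroup G)) = ⟨fstE e, e.2⟩ * ⟨fstE f, f.2⟩ from rfl,
          map_mul, mul_inv_rev, mul_assoc (sndE (e : E)) (sndE (f : E)),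
          ← mul_assoc (sndE (f : E)), ← hAc _ (hdiff f) ((mkS ⟨fstE e, e.2⟩)⁻¹), mul_assoc] }
  have hidx : P'.index = (P : Subgroup G).index := Subgroup.index_comap_of_surjective _ hfst
  let τ : E →* A := MonoidHom.transfer φ
  let ι : ∀ a : A, E := fun a => ⟨(1, a), show QuotientGroup.mk' K 1 = π a by rw [map_one, a.2]⟩
  have hτ : ∀ a : A, τ (ι a) = a ^ (P : Subgroup G).index := by
    intro a
    have key : ∀ (k : ℕ) (g₀ : E), g₀⁻¹ * ι a ^ k * g₀ ∈ P' → g₀⁻¹ * ι a ^ k * g₀ = ι a ^ k := by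
      intro k g₀ _
      have hcomm : Commute g₀ (ι a) := by
        apply Subtype.ext
        exact Prod.ext (by simp [ι]) (hAc a a.2 _)
      rw [mul_assoc, ← (hcomm.pow_right k).eq, inv_mul_cancel_left]
    rw [show τ (ι a) = MonoidHom.transfer φ (ι a) from rfl, MonoidHom.transfer_eq_pow φ (ι a) key]
    have hmem : ι a ∈ P' := show fstE (ι a) ∈ (P : Subgroup G) from one_mem _
    rw [show (⟨ι a ^ P'.index, _⟩ : P') = ⟨ι a, hmem⟩ ^ P'.index from rfl, map_pow, hidx]
    congr 1
    apply Subtype.ext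
    show sndE (ι a) * (mkS ⟨fstE (ι a), _⟩)⁻¹ = a
    rw [show (⟨fstE (ι a), hmem⟩ : (P : Subgroup G)) = 1 from rfl, map_one, inv_one, mul_one]
    rfl
  have hpowA := ((hQ.to_subgroup A).powEquiv' P.not_dvd_index).bijective
  let ψ : τ.ker →* G := fstE.comp τ.ker.subtype
  have hψ : Function.Bijective ψ := by
    constructor
    · rw [← MonoidHom.ker_eq_bot_iff, eq_bot_iff]
      intro e he
      have h1 : fstE e = 1 := he
      have ha : sndE e ∈ A := by
        show π (sndE e) = 1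
        rw [← hE, h1, map_one]
      have hee : (e : E) = ι ⟨sndE e, ha⟩ := Subtype.ext (Prod.ext h1 rfl)
      have h2 : τ (ι ⟨sndE e, ha⟩) = 1 := hee ▸ e.2
      rw [hτ] at h2
      have h3 : (⟨sndE e, ha⟩ : A) = 1 := hpowA.1 (h2.trans (one_pow _).symm)
      rw [Subgroup.mem_bot]
      apply Subtype.ext
      rw [hee, h3]
      rfl
    · intro g
      obtain ⟨e, rfl⟩ := hfst g
      obtain ⟨a, ha⟩ := hpowA.2 (τ e)
      refine ⟨⟨e * (ι a)⁻¹, ?_⟩, ?_⟩
      · rw [MonoidHom.mem_ker, map_mul, map_inv, hτ, mul_inv_eq_one]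
        exact ha.symm
      · show fstE (e * (ι a)⁻¹) = fstE e
        rw [map_mul, map_inv, show fstE (ι a) = 1 from rfl, inv_one, mul_one]
  let f : G →* (P : Subgroup G) ⧸ S' :=
    (sndE.comp τ.ker.subtype).comp (MulEquiv.ofBijective ψ hψ).symm.toMonoidHom
  have hf : ∀ g, π (f g) = QuotientGroup.mk' K g := by
    intro g
    rw [show f g = sndE ((MulEquiv.ofBijective ψ hψ).symm g : E) from rfl, ← hE]
    exact congrArg _ ((MulEquiv.ofBijective ψ hψ).apply_symm_apply g)
  have hfsurj : f.range = ⊤ := by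
    refine frattini_nongenerating (eq_top_iff.2 fun q _ => ?_)
    obtain ⟨z, hz⟩ := QuotientGroup.mk'_surjective K (π q)
    have h1 : (f z)⁻¹ * q ∈ A := by
      show π ((f z)⁻¹ * q) = 1
      rw [map_mul, map_inv, hf, hz, inv_mul_cancel]
    have h2 : A ≤ frattini ((P : Subgroup G) ⧸ S') := by
      rw [hAmap, Subgroup.map_le_iff_le_comap]
      have h3 : R' ≤ T.subgroupOf (P : Subgroup G) ⊔ frattini (P : Subgroup G) := by
        refine (Subgroup.map_le_map_iff_of_injective (P : Subgroup G).subtype_injective).1 ?_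
        rw [Subgroup.map_sup, Subgroup.map_subgroupOf_eq_of_le hTP, hR', Subgroup.subgroupOf_map_subtype]
        exact h
      refine h3.trans (sup_le (fun t ht => ?_)
        (frattini_le_comap_frattini_of_surjective (QuotientGroup.mk'_surjective S')))
      rw [Subgroup.mem_comap, show mkS t = 1 from (QuotientGroup.eq_one_iff t).2 (Subgroup.mem_sup_right ht)]
      exact one_mem _
    rw [show q = f z * ((f z)⁻¹ * q) from (mul_inv_cancel_left _ _).symm]
    exact Subgroup.mul_mem_sup ⟨z, rfl⟩ (h2 h1)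
  refine hAbot (le_bot_iff.1 fun a ha => Subgroup.mem_bot.2 ?_)
  obtain ⟨g, rfl⟩ : ∃ g, f g = a := MonoidHom.range_eq_top.1 hfsurj a
  replace ha : π (f g) = 1 := ha
  rw [hf] at ha
  exact pResidual_le_ker f hQ ((QuotientGroup.eq_one_iff g).1 ha)

/-- If `S ∩ G' = S ∩ M'` then `S ∩ O^p(G) = S ∩ O^p(M)`. -/
theorem inf_pResidual_le_map (S : Sylow p G) {M : Subgroup G} (hSM : (S : Subgroup G) ≤ M)
    (h : (S : Subgroup G) ⊓ commutator G = (S : Subgroup G) ⊓ ⁅M, M⁆) :
    pResidual p G ⊓ (S : Subgroup G) ≤ (S : Subgroup G) ⊓ (pResidual p M).map M.subtype := by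
  have hMn : M ≤ Subgroup.normalizer ((pResidual p M).map M.subtype : Set G) := by
    refine fun m hm => Subgroup.mem_normalizer_fintype ?_
    rintro _ ⟨k, hk, rfl⟩
    exact ⟨⟨m, hm⟩ * k * ⟨m, hm⟩⁻¹, pResidual_normal.conj_mem k hk _, by simp⟩
  refine inf_pResidual_le_of_le_sup_frattini S _ inf_le_left ?_
    (inf_le_right.trans (map_pResidual_le _)) fun x hx => ?_
  · exact (le_inf Subgroup.le_normalizer (hSM.trans hMn)).trans Subgroup.inf_normalizer_le_normalizer_inf
  have h1 : x ∈ (S : Subgroup G) ⊓ commutator G :=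
    ⟨hx.2, Subgroup.commutator_mono le_top le_top
      (pGroup_le_commutator_pResidual S.2.to_inf_left inf_le_right ⟨hx.2, hx.1⟩)⟩
  rw [h] at h1
  let Sm : Subgroup M := (S : Subgroup G).subgroupOf M
  let π := QuotientGroup.mk' (pResidual p M)
  have hsurj : Sm.map π = ⊤ := by
    refine top_le_iff.1 fun q _ => ?_
    obtain ⟨m, rfl⟩ := QuotientGroup.mk'_surjective _ q
    obtain ⟨k, hk, z, hz, rfl⟩ := exists_mul_sylow (S.subtype hSM) m
    refine ⟨z, hz, ?_⟩
    rw [map_mul, show π k = 1 from (QuotientGroup.eq_one_iff k).2 hk, one_mul]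
  have hle : ⁅(⊤ : Subgroup M), ⊤⁆ ≤ ⁅Sm, Sm⁆ ⊔ pResidual p M := by
    rw [← QuotientGroup.ker_mk' (pResidual p M), ← Subgroup.comap_map_eq, ← Subgroup.map_le_iff_le_comap,
      Subgroup.map_commutator, Subgroup.map_commutator, hsurj]
    exact Subgroup.commutator_mono le_top le_top
  obtain ⟨y, hy, rfl⟩ : x ∈ Subgroup.map M.subtype ⁅(⊤ : Subgroup M), (⊤ : Subgroup M)⁆ := by
    rw [Subgroup.map_commutator, ← MonoidHom.range_eq_map, Subgroup.range_subtype]
    exact h1.2
  obtain ⟨c, hc, k, hk, rfl⟩ := Subgroup.mem_sup_of_normal_right.1 (hle hy)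
  have hcS : (c : G) ∈ S := (Subgroup.commutator_le_self Sm) hc
  have hkS : (k : G) ∈ S := by
    have h2 := (S : Subgroup G).mul_mem ((S : Subgroup G).inv_mem hcS) hx.2
    rwa [map_mul, Subgroup.coe_subtype, inv_mul_cancel_left] at h2
  rw [map_mul]
  refine mul_mem (Subgroup.mem_sup_right ?_) (Subgroup.mem_sup_left ⟨hkS, k, hk, rfl⟩)
  have hc' : (c : G) ∈ ⁅(S : Subgroup G), (S : Subgroup G)⁆ := by
    have h3 : (c : G) ∈ Subgroup.map M.subtype ⁅Sm, Sm⁆ := ⟨c, hc, rfl⟩
    rw [Subgroup.map_commutator, Subgroup.map_subgroupOf_eq_of_le hSM] at h3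
    exact h3
  have h4 := Subgroup.map_mono (f := (S : Subgroup G).subtype) (PGroups.commutator_le_frattini S.2)
  refine h4 ?_
  rw [_root_.commutator_def, Subgroup.map_commutator, ← MonoidHom.range_eq_map, Subgroup.range_subtype]
  exact hc'

/-- `S ∩ G' = S ∩ M'` gives `G / O^p(G) ≅ M / O^p(M)`. -/
theorem nonempty_quotient_equiv (S : Sylow p G) {M : Subgroup G} (hSM : (S : Subgroup G) ≤ M)
    (h : (S : Subgroup G) ⊓ commutator G = (S : Subgroup G) ⊓ ⁅M, M⁆) :
    Nonempty (G ⧸ pResidual p G ≃* ↥M ⧸ pResidual p ↥M) := by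
  let f : ↥M →* G ⧸ pResidual p G := (QuotientGroup.mk' (pResidual p G)).comp M.subtype
  have hf : Function.Surjective f := by
    intro q
    obtain ⟨g, rfl⟩ := QuotientGroup.mk'_surjective _ q
    obtain ⟨k, hk, z, hz, rfl⟩ := exists_mul_sylow S g
    refine ⟨⟨z, hSM hz⟩, ?_⟩
    rw [map_mul, show QuotientGroup.mk' (pResidual p G) k = 1 from (QuotientGroup.eq_one_iff k).2 hk,
      one_mul]
    rfl
  have hker : f.ker = pResidual p M := by
    refine le_antisymm (fun x hx => ?_) (pResidual_le_ker f isPGroup_quotient)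
    have hxK : (x : G) ∈ pResidual p G := (QuotientGroup.eq_one_iff _).1 hx
    obtain ⟨k, hk, z, hz, rfl⟩ := exists_mul_sylow (S.subtype hSM) x
    have hzK : (z : G) ∈ pResidual p G := by
      have h2 := (pResidual p G).mul_mem
        ((pResidual p G).inv_mem (map_pResidual_le M.subtype ⟨k, hk, rfl⟩)) hxK
      simpa using h2
    obtain ⟨z', hz', he⟩ := (inf_pResidual_le_map S hSM h ⟨hzK, hz⟩).2
    exact mul_mem hk (M.subtype_injective he ▸ hz')
  exact ⟨((QuotientGroup.quotientMulEquivOfEq hker.symm).trans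
    (QuotientGroup.quotientKerEquivOfSurjective f hf)).symm⟩

end Cfsg.Agent.Lib.LA5.JDegree.TateIso
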